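import Cfsg.Agent.Lib.Frobenius.NilpotentMaximal
import Cfsg.Agent.Lib.Solvable.ThompsonComplement
import Cfsg.Agent.Lib.PLocal.ClosedTest
import Cfsg.Agent.Lib.PLocal.Thompson
import Cfsg.Agent.Lib.Transfer.Frobenius
import Cfsg.Agent.Lib.Coprime.Hall

/-!
Groups in which all noncentral centralizers are maximal, studied in the central quotient.
-/

set_option autoImplicit false

open Subgroup
open scoped commutatorElement

universe u

namespace Cfsg.Agent.Lib.MaximalCentralizers

open Cfsg.Agent.Lib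

/-- An abstract centralizer map on a central quotient. -/
structure CMap (H : Type u) [Group H] where
  M : H → Subgroup H
  coatom : ∀ x, x ≠ 1 → IsCoatom (M x)
  self : ∀ x, x ∈ M x
  symm : ∀ x y, y ∈ M x → x ∈ M y
  comm : ∀ x y, y ∈ M x → Commute x y
  conj : ∀ g x y, y ∈ M x → g * y * g⁻¹ ∈ M (g * x * g⁻¹)
  mul : ∀ x y, M x ⊓ M y ≤ M (x * y)
  pow : ∀ x (n : ℕ), M x ≤ M (x ^ n)

variable {H : Type u} [Group H] [Finite H] (c : CMap H)

theorem exists_pow_prime {x : H} (hx : x ≠ 1) :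
    ∃ (t n : ℕ), t.Prime ∧ orderOf (x ^ n) = t := by
  obtain ⟨t, ht, htd⟩ := Nat.exists_prime_and_dvd (fun h => hx (orderOf_eq_one_iff.mp h))
  refine ⟨t, orderOf x / t, ht, ?_⟩
  exact orderOf_pow_orderOf_div (orderOf_pos x).ne' htd

theorem ne_one_of_order {x : H} {t : ℕ} (ht : t.Prime) (hx : orderOf x = t) : x ≠ 1 := fun h => by
  rw [h, orderOf_one] at hx
  exact ht.ne_one hx.symm

namespace CMap

theorem eq_of_le {x y : H} (hx : x ≠ 1) (hy : y ≠ 1) (h : c.M x ≤ c.M y) : c.M x = c.M y := by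
  rcases ((c.coatom x hx).le_iff).mp h with h' | h'
  · exact absurd h' (c.coatom y hy).1
  · exact h'.symm

theorem eq_pow {x : H} {n : ℕ} (hn : x ^ n ≠ 1) : c.M x = c.M (x ^ n) :=
  c.eq_of_le (fun h => hn (by rw [h, one_pow])) hn (c.pow x n)

theorem eq_of_coprime {x y : H} (hx : x ≠ 1) (hy : y ≠ 1) (h : y ∈ c.M x)
    (hco : (orderOf x).Coprime (orderOf y)) : c.M x = c.M y := by
  have hxy := c.comm x y h
  have key : ∀ a b : H, a ≠ 1 → Commute a b → (orderOf a).Coprime (orderOf b) →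
      c.M (a * b) = c.M a := by
    intro a b ha hab hab'
    obtain ⟨n, hn⟩ := exists_pow_eq_self_of_coprime (x := a) hab'.symm
    have e : (a * b) ^ (orderOf b * n) = a := by
      rw [pow_mul, hab.mul_pow, pow_orderOf_eq_one, mul_one, hn]
    exact (c.eq_pow (x := a * b) (n := orderOf b * n) (by rw [e]; exact ha)).trans (congrArg c.M e)
  rw [← key x y hx hxy hco, hxy.eq, key y x hy hxy.symm hco.symm]

/-- All nontrivial elements have this subgroup as their centralizer. -/
def IsAb (M : Subgroup H) : Prop := ∀ a ∈ M, a ≠ 1 → c.M a = M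

theorem IsAb.commute {M : Subgroup H} (h : c.IsAb M) {a b : H} (ha : a ∈ M) (hb : b ∈ M) :
    Commute a b := by
  rcases eq_or_ne a 1 with rfl | ha1
  · exact Commute.one_left b
  · exact c.comm a b ((h a ha ha1).symm ▸ hb)

theorem ab_or_prime {x : H} {t : ℕ} (ht : t.Prime) (hx : orderOf x = t) :
    c.IsAb (c.M x) ∨ IsPGroup t (c.M x) := by
  by_cases hq : ∃ w ∈ c.M x, ∃ u : ℕ, u.Prime ∧ u ≠ t ∧ orderOf w = u
  · left
    obtain ⟨w, hw, u, hu, hut, hwo⟩ := hq
    have hx1 := ne_one_of_order ht hx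
    have hxw : c.M x = c.M w := c.eq_of_coprime hx1 (ne_one_of_order hu hwo) hw
      (by rw [hx, hwo]; exact (Nat.coprime_primes ht hu).mpr hut.symm)
    intro a ha ha1
    obtain ⟨s, n, hs, hn⟩ := exists_pow_prime ha1
    have hb : a ^ n ∈ c.M x := Subgroup.pow_mem _ ha n
    rw [c.eq_pow (ne_one_of_order hs hn)]
    by_cases hst : s = t
    · rw [hxw] at hb ⊢
      exact (c.eq_of_coprime (ne_one_of_order hu hwo) (ne_one_of_order hs hn) hb
        (by rw [hwo, hn]; exact (Nat.coprime_primes hu hs).mpr (hst ▸ hut))).symm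
    · exact (c.eq_of_coprime hx1 (ne_one_of_order hs hn) hb
        (by rw [hx, hn]; exact (Nat.coprime_primes ht hs).mpr (Ne.symm hst))).symm
  · right
    push Not at hq
    haveI := Fact.mk ht
    refine IsPGroup.iff_card.mpr ⟨_, Nat.eq_prime_pow_of_unique_prime_dvd Nat.card_pos.ne'
      fun {w} hw hwd => ?_⟩
    haveI := Fact.mk hw
    obtain ⟨⟨a, haM⟩, ha⟩ := exists_prime_orderOf_dvd_card' (G := c.M x) w hwd
    by_contra hwt
    exact hq a haM w hw hwt (by rwa [Subgroup.orderOf_mk] at ha)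

theorem isNilpotent_of_isAb {M : Subgroup H} (h : c.IsAb M) : Group.IsNilpotent M := by
  letI : CommGroup M := { (inferInstance : Group M) with
    mul_comm := fun a b => Subtype.ext (h.commute c a.2 b.2).eq }
  exact inferInstance

include c in
/-- In a prime power group everything has prime order and commutes. -/
theorem elementary_of_isPGroup {p : ℕ} (hp : p.Prime) (h : IsPGroup p H) :
    Cfsg.IsElementaryAbelian p (⊤ : Subgroup H) := by
  haveI := Fact.mk hp
  haveI := h.isNilpotent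
  have key : ∀ a : H, (∀ y, y ≠ 1 → a ∈ c.M y) → a = 1 := by
    intro a ha
    by_contra ha1
    refine (c.coatom a ha1).1 (eq_top_iff.mpr fun y _ => ?_)
    rcases eq_or_ne y 1 with rfl | hy
    · exact one_mem _
    · exact c.symm _ _ (ha y hy)
  have hmax : ∀ y, y ≠ 1 → (c.M y).Normal ∧ (c.M y).index = p := fun y hy => by
    have hn : (c.M y).Normal :=
      Subgroup.NormalizerCondition.normal_of_coatom _ Group.normalizerCondition_of_isNilpotent
        (c.coatom y hy)
    refine ⟨hn, ?_⟩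
    haveI := hn
    obtain ⟨k, hk⟩ := h.index (c.M y)
    have hs : IsSimpleGroup (H ⧸ c.M y) := by
      haveI : Nontrivial (H ⧸ c.M y) := QuotientGroup.nontrivial_iff.mpr (c.coatom y hy).1
      refine ⟨fun N hN => ?_⟩
      rcases (c.coatom y hy).le_iff.mp (show c.M y ≤ N.comap (QuotientGroup.mk' _) from fun a ha => by
        rw [mem_comap, QuotientGroup.mk'_apply, (QuotientGroup.eq_one_iff a).mpr ha]; exact one_mem _)
        with h' | h'
      · refine Or.inr (eq_top_iff.mpr fun a _ => ?_)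
        obtain ⟨b, rfl⟩ := QuotientGroup.mk'_surjective _ a
        exact h'.ge (mem_top b)
      · refine Or.inl (eq_bot_iff.mpr fun a ha => ?_)
        obtain ⟨b, rfl⟩ := QuotientGroup.mk'_surjective _ a
        rw [mem_bot, QuotientGroup.mk'_apply, QuotientGroup.eq_one_iff]
        exact h'.le ha
    haveI : Group.IsNilpotent (H ⧸ c.M y) :=
      Group.nilpotent_of_surjective _ (QuotientGroup.mk'_surjective (c.M y))
    letI : CommGroup (H ⧸ c.M y) := { (inferInstance : Group (H ⧸ c.M y)) with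
      mul_comm := fun a b => (IsSimpleGroup.comm_iff_isSolvable.mpr inferInstance a b) }
    have hpr := IsSimpleGroup.prime_card (α := H ⧸ c.M y)
    rw [← index_eq_card, hk] at hpr
    rw [hk, hpr.eq_one_of_pow, pow_one]
  refine ⟨⟨⟨fun a b => Subtype.ext ?_⟩⟩, fun a _ => key _ fun y hy => ?_⟩
  · refine commutatorElement_eq_one_iff_mul_comm.mp (key _ fun y hy => ?_)
    obtain ⟨hn, hi⟩ := hmax y hy
    haveI := hn
    haveI : IsCyclic (H ⧸ c.M y) := isCyclic_of_prime_card ((index_eq_card _).symm.trans hi)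
    refine (QuotientGroup.eq_one_iff (N := c.M y) _).mp ?_
    show QuotientGroup.mk' (c.M y) _ = 1
    rw [map_commutatorElement, commutatorElement_eq_one_iff_mul_comm]
    exact IsMulCommutative.is_comm.comm _ _
  · obtain ⟨hn, hi⟩ := hmax y hy
    exact hi ▸ (c.M y).pow_index_mem a

theorem card_of_inf_eq_bot {M N : Subgroup H} [hM : M.Normal] (hN : N ≠ ⊥) (h : M ⊓ N = ⊥)
    {r : ℕ} (hr : r.Prime) (hi : M.index = r) : Nat.card N = r := by
  have h1 : Nat.card N ∣ r := by
    rw [← hi, index_eq_card]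
    refine card_dvd_of_injective ((QuotientGroup.mk' M).comp N.subtype) ((injective_iff_map_eq_one _).mpr
      fun a ha => Subtype.ext (mem_bot.mp (h ▸ ⟨(QuotientGroup.eq_one_iff _).mp ha, a.2⟩)))
  exact (hr.eq_one_or_self_of_dvd _ h1).resolve_left fun h' => hN (eq_bot_of_card_eq _ h')

theorem index_prime {M : Subgroup H} [hn : M.Normal] (hM : IsCoatom M) : M.index.Prime := by
  have hne : M.index ≠ 1 := fun h => hM.1 (index_eq_one.mp h)
  obtain ⟨r, hr, hrd⟩ := Nat.exists_prime_and_dvd hne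
  haveI := Fact.mk hr
  obtain ⟨q, hq⟩ := exists_prime_orderOf_dvd_card' (G := H ⧸ M) r (by rwa [← index_eq_card])
  obtain ⟨g, rfl⟩ := QuotientGroup.mk'_surjective M q
  have htop : (zpowers (QuotientGroup.mk' M g)).comap (QuotientGroup.mk' M) = ⊤ := hM.2 _
    (lt_of_le_of_ne (fun a ha => by
      rw [mem_comap, show QuotientGroup.mk' M a = 1 from (QuotientGroup.eq_one_iff a).mpr ha]
      exact one_mem _)
      fun h => ne_one_of_order hr hq ((QuotientGroup.eq_one_iff g).mpr
        (h.ge (mem_comap.mpr (mem_zpowers _)))))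
  have h2 : zpowers (QuotientGroup.mk' M g) = ⊤ := eq_top_iff.mpr fun a _ => by
    obtain ⟨b, rfl⟩ := QuotientGroup.mk'_surjective M a
    exact htop.ge (mem_top b)
  rw [index_eq_card, ← card_top (G := H ⧸ M), ← h2, Nat.card_zpowers, hq]
  exact hr

/-- A normal centralizer gives a normal abelian one. -/
theorem exists_normal_ab (hnp : ∀ p : ℕ, p.Prime → ¬ IsPGroup p H) {x : H} (hx : x ≠ 1)
    (hn : (c.M x).Normal) : ∃ z, z ≠ 1 ∧ (c.M z).Normal ∧ c.IsAb (c.M z) := by
  obtain ⟨t, n, ht, hxn⟩ := exists_pow_prime hx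
  set x' := x ^ n with hx'
  have hx1 := ne_one_of_order ht hxn
  rw [c.eq_pow hx1] at hn
  rcases c.ab_or_prime ht hxn with h | hP
  · exact ⟨x', hx1, hn, h⟩
  haveI := Fact.mk ht
  obtain ⟨r, hr, hrt, hrd⟩ : ∃ r : ℕ, r.Prime ∧ r ≠ t ∧ r ∣ Nat.card H := by
    by_contra hcon
    push Not at hcon
    exact hnp t ht (IsPGroup.iff_card.mpr ⟨_, Nat.eq_prime_pow_of_unique_prime_dvd Nat.card_pos.ne'
      fun {w} hw hwd => by_contra fun hwt => hcon w hw hwt hwd⟩)
  haveI := Fact.mk hr
  obtain ⟨y, hy⟩ := exists_prime_orderOf_dvd_card' (G := H) r hrd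
  have hy1 := ne_one_of_order hr hy
  set M := c.M x' with hM
  have hyM : y ∉ M := fun h => by
    obtain ⟨k, hk⟩ := IsPGroup.iff_card.mp hP
    have := hy ▸ _root_.Subgroup.orderOf_dvd_natCard M h
    rw [hk] at this
    exact hrt ((Nat.prime_dvd_prime_iff_eq hr ht).mp (hr.dvd_of_dvd_pow this))
  by_cases hD : M ⊓ c.M y = ⊥
  · -- the centralizer of `y` is a complement
    have hi := index_prime (hn := hn) (c.coatom x' hx1)
    have hcard := card_of_inf_eq_bot (hM := hn) (fun h => hy1 (mem_bot.mp (h ▸ c.self y))) hD hi rfl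
    have hyz : c.M y = zpowers y := (eq_of_le_of_card_ge (zpowers_le.mpr (c.self y)) (by
      rw [Nat.card_zpowers, hy, hcard]
      have := hy ▸ _root_.Subgroup.orderOf_dvd_natCard _ (c.self y)
      rw [hcard] at this
      exact ((Nat.prime_dvd_prime_iff_eq hr hi).mp this).ge)).symm
    let Zc : Subgroup H :=
      { carrier := {a | a ∈ M ∧ M ≤ c.M a}
        one_mem' := ⟨one_mem _, fun b _ => c.symm _ _ (one_mem _)⟩
        mul_mem' := fun {a b} ha hb => ⟨M.mul_mem ha.1 hb.1, (le_inf ha.2 hb.2).trans (c.mul a b)⟩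
        inv_mem' := fun {a} ha => ⟨M.inv_mem ha.1, by
          obtain ⟨k, hk⟩ := (isOfFinOrder_of_finite a).mem_powers_iff_mem_zpowers.mpr
            (inv_mem (mem_zpowers a))
          exact hk ▸ ha.2.trans (c.pow a k)⟩ }
    have hZn : Zc.Normal := ⟨fun a ha g => ⟨hn.conj_mem a ha.1 g, fun b hb => by
      have h1 := c.conj g a (g⁻¹ * b * g) (ha.2 (by simpa using hn.conj_mem b hb g⁻¹))
      convert h1 using 1
      group⟩⟩
    have htop : Zc ⊔ zpowers y = ⊤ := (hyz ▸ c.coatom y hy1).2 _ (lt_of_le_of_ne le_sup_right fun h => by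
      have hxz : x' ∈ zpowers y := h ▸ mem_sup_left (show x' ∈ Zc from ⟨c.self x', le_rfl⟩)
      rw [← hyz] at hxz
      exact hx1 (mem_bot.mp (hD ▸ ⟨c.self x', hxz⟩)))
    refine ⟨x', hx1, hn, fun a ha ha1 => (c.eq_of_le hx1 ha1 ?_).symm⟩
    have ha' : a ∈ Zc ⊔ zpowers y := htop ▸ mem_top a
    rw [← SetLike.mem_coe, Subgroup.normal_mul] at ha'
    obtain ⟨z, hz, w, hw, rfl⟩ := Set.mem_mul.mp ha'
    have hwM : w ∈ M := by
      have := M.mul_mem (M.inv_mem hz.1) ha
      rwa [inv_mul_cancel_left] at this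
    have hw1 : w = 1 := mem_bot.mp (hD ▸ ⟨hwM, hyz.ge hw⟩)
    rw [hw1, mul_one]
    exact hz.2
  · obtain ⟨d, hd, hd1⟩ := (Subgroup.bot_or_exists_ne_one _).resolve_left hD
    have hcopM : ∀ e ∈ M, e ≠ 1 → e ∈ c.M y → c.M y = c.M e := fun e he he1 hey =>
      c.eq_of_coprime hy1 he1 hey (by
        obtain ⟨k, hk⟩ := IsPGroup.iff_card.mp hP
        obtain ⟨j, -, hj⟩ := (Nat.dvd_prime_pow ht).mp (hk ▸ _root_.Subgroup.orderOf_dvd_natCard M he)
        rw [hy, hj]
        exact ((Nat.coprime_primes hr ht).mpr hrt).pow_right j)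
    have hAb : c.IsAb (c.M y) := (c.ab_or_prime hr hy).resolve_right fun hR => by
      obtain ⟨k, hk⟩ := IsPGroup.iff_card.mp hR
      obtain ⟨k', hk'⟩ := IsPGroup.iff_card.mp hP
      have h1 := hk ▸ _root_.Subgroup.orderOf_dvd_natCard _ hd.2
      have h2 := hk' ▸ _root_.Subgroup.orderOf_dvd_natCard _ hd.1
      exact hd1 (orderOf_eq_one_iff.mp (Nat.eq_one_of_dvd_coprimes
        (((Nat.coprime_primes hr ht).mpr hrt).pow _ _) h1 h2))
    set D := M ⊓ c.M y with hD'
    have hDn : D.Normal := by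
      rw [← normalizer_eq_top_iff]
      refine (c.coatom y hy1).2 _ (lt_of_le_of_ne (fun g hg => mem_normalizer_fintype fun e he =>
        ⟨hn.conj_mem e he.1 g, (c.M y).mul_mem ((c.M y).mul_mem hg he.2) ((c.M y).inv_mem hg)⟩) ?_)
      intro heq
      haveI : Group.IsNilpotent M := hP.isNilpotent
      have hlt : D.subgroupOf M < ⊤ := lt_top_iff_ne_top.mpr fun h => by
        rw [subgroupOf_eq_top] at h
        exact hyM ((c.eq_of_le hx1 hy1 (h.trans inf_le_right)).ge (c.self y))
      obtain ⟨e, he, heD⟩ := SetLike.exists_of_lt (Group.normalizerCondition_of_isNilpotent _ hlt)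
      refine heD (show (e : H) ∈ D from ⟨e.2, ?_⟩)
      rw [heq]
      refine mem_normalizer_fintype fun a ha => ?_
      exact (mem_normalizer_iff.mp he ⟨a, ha.1⟩).mp ha
    refine ⟨y, hy1, ⟨fun a ha g => ?_⟩, hAb⟩
    have hgd := hDn.conj_mem d hd g
    have e1 := hcopM d hd.1 hd1 hd.2
    have e2 := hcopM (g * d * g⁻¹) hgd.1 (by simpa using hd1) hgd.2
    rw [e2]
    exact c.conj g d a (e1 ▸ ha)

/-- The structure in the presence of a normal abelian centralizer. -/
theorem structure_of_normal_ab (hnp : ∀ p : ℕ, p.Prime → ¬ IsPGroup p H) {x : H} (hx : x ≠ 1)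
    (hn : (c.M x).Normal) (hab : c.IsAb (c.M x)) :
    ¬ IsMulCommutative H ∧ (∀ K : Subgroup H, K ≠ ⊤ → IsMulCommutative K) ∧
      ∃ p q a : ℕ, p.Prime ∧ q.Prime ∧ p ≠ q ∧ Nat.card H = p ^ a * q ∧
        ∀ P : Subgroup H, Nat.card P = p ^ a → P.Normal := by
  set M := c.M x with hM
  have hi := index_prime (hn := hn) (c.coatom x hx)
  set r := M.index with hr
  have hout : ∀ y, y ∉ M → c.M y = zpowers y ∧ orderOf y = r := by
    intro y hy
    have hy1 : y ≠ 1 := fun h => hy (h ▸ one_mem _)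
    have hD : M ⊓ c.M y = ⊥ := eq_bot_iff.mpr fun a ha => by
      rw [mem_bot]
      by_contra ha1
      exact hy (hab a ha.1 ha1 ▸ c.symm _ _ ha.2)
    have hcard := card_of_inf_eq_bot (hM := hn) (fun h => hy1 (mem_bot.mp (h ▸ c.self y))) hD hi rfl
    have ho : orderOf y = r := ((hi.eq_one_or_self_of_dvd _
      (hcard ▸ _root_.Subgroup.orderOf_dvd_natCard _ (c.self y)))).resolve_left
        fun h => hy1 (orderOf_eq_one_iff.mp h)
    exact ⟨(eq_of_le_of_card_ge (zpowers_le.mpr (c.self y)) (by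
      rw [Nat.card_zpowers, ho, hcard])).symm, ho⟩
  obtain ⟨y, hyM⟩ : ∃ y, y ∉ M := by
    by_contra h
    push Not at h
    exact (c.coatom x hx).1 (eq_top_iff.mpr fun a _ => h a)
  obtain ⟨hyz, hyo⟩ := hout y hyM
  have hy1 : y ≠ 1 := fun h => hyM (h ▸ one_mem _)
  haveI := hn
  haveI : IsMulCommutative M := ⟨⟨fun a b => Subtype.ext (hab.commute c a.2 b.2).eq⟩⟩
  obtain ⟨p, U, hp, hUn, hU1, hUM, -, -, hUe⟩ := Coprime.exists_normal_abelian_pgroup_le (N := M)
    (fun h => hx (mem_bot.mp (h ▸ c.self x))) (Coprime.isSolvable_of_isMulCommutative M)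
  have hMU : M ≤ U := fun a ha => by
    have htop : U ⊔ zpowers y = ⊤ := (hyz ▸ c.coatom y hy1).2 _ (lt_of_le_of_ne le_sup_right fun h => by
      obtain ⟨u, hu, hu1⟩ := (Subgroup.bot_or_exists_ne_one U).resolve_left hU1
      have : u ∈ c.M y := hyz.ge (h ▸ mem_sup_left hu)
      exact hyM (hab u (hUM hu) hu1 ▸ c.symm _ _ this))
    have ha' : a ∈ U ⊔ zpowers y := htop ▸ mem_top a
    rw [← SetLike.mem_coe, Subgroup.normal_mul] at ha'
    obtain ⟨z, hz, w, hw, rfl⟩ := Set.mem_mul.mp ha'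
    have hwM : w ∈ M := by
      have := M.mul_mem (M.inv_mem (hUM hz)) ha
      rwa [inv_mul_cancel_left] at this
    have hw1 : w = 1 := by
      by_contra hw1
      exact hyM (hab w hwM hw1 ▸ c.symm _ _ (hyz.ge hw))
    rw [hw1, mul_one]
    exact hz
  haveI := Fact.mk hp
  have hMp : IsPGroup p M := fun a => ⟨1, Subtype.ext (by simpa using hUe a (hMU a.2))⟩
  obtain ⟨k, hk⟩ := IsPGroup.iff_card.mp hMp
  have hcard : Nat.card H = p ^ k * r := by rw [← hk, hr, M.card_mul_index]
  have hpr : p ≠ r := fun h => hnp p hp (IsPGroup.of_card (n := k + 1) (by rw [hcard, ← h, pow_succ]))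
  refine ⟨fun hcomm => ?_, fun K hK => ?_, p, r, k, hp, hi, hpr, hcard, fun P hP => ?_⟩
  · -- the product of `x` and `y` has too large an order
    obtain ⟨hxyz, hxyo⟩ := hout (x * y) fun h => hyM (by
      have := M.mul_mem (M.inv_mem (c.self x)) h
      rwa [inv_mul_cancel_left] at this)
    have hc : Commute x y := hcomm.is_comm.comm x y
    have hxo : orderOf x = p := orderOf_eq_prime (hUe x (hMU (c.self x))) hx
    rw [hc.orderOf_mul_eq_mul_orderOf_of_coprime (by
      rw [hxo, hyo]; exact (Nat.coprime_primes hp hi).mpr hpr), hxo, hyo] at hxyo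
    exact hp.ne_one (by nlinarith [hi.two_le, hp.two_le])
  · by_cases hKM : K ≤ M
    · exact ⟨⟨fun a b => Subtype.ext (hab.commute c (hKM a.2) (hKM b.2)).eq⟩⟩
    obtain ⟨w, hwK, hwM⟩ := SetLike.not_le_iff_exists.mp hKM
    obtain ⟨hwz, -⟩ := hout w hwM
    have hKw : K = zpowers w := ((hwz ▸ c.coatom w fun h => hwM (h ▸ one_mem _)).le_iff.mp
      (zpowers_le.mpr hwK)).resolve_left hK
    rw [hKw]
    infer_instance
  · have hPM : P ≤ M := fun a ha => by
      by_contra haM
      have h1 := (hout a haM).2 ▸ _root_.Subgroup.orderOf_dvd_natCard P ha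
      rw [hP] at h1
      exact hpr ((Nat.prime_dvd_prime_iff_eq hi hp).mp (hi.dvd_of_dvd_pow h1)).symm
    rw [eq_of_le_of_card_ge hPM (by rw [hP, hk])]
    exact hn

theorem exists_elem_normal_of_solvable {N : Subgroup H} [hN : N.Normal] (hN1 : N ≠ ⊥)
    (hs : Group.IsSolvable N) :
    ∃ (t : ℕ) (K : Subgroup H), t.Prime ∧ K.Normal ∧ K ≠ ⊥ ∧ Cfsg.IsElementaryAbelian t K := by
  obtain ⟨t, K, ht, hKn, hK1, -, hKc, -, hKe⟩ := Coprime.exists_normal_abelian_pgroup_le hN1 hs
  exact ⟨t, K, ht, hKn, hK1, ⟨hKc, hKe⟩⟩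

include c in
/-- If no centralizer is normal, there is still a normal elementary subgroup. -/
theorem exists_elem_normal (hnp : ∀ p : ℕ, p.Prime → ¬ IsPGroup p H) [Nontrivial H] :
    ∃ (t : ℕ) (K : Subgroup H), t.Prime ∧ K.Normal ∧ K ≠ ⊥ ∧ Cfsg.IsElementaryAbelian t K := by
  obtain ⟨x, hx, hgood⟩ : ∃ x, x ≠ 1 ∧
      (c.IsAb (c.M x) ∨ ∃ p : ℕ, p.Prime ∧ p ≠ 2 ∧ IsPGroup p (c.M x)) := by
    obtain ⟨r, hr, hr2, hrd⟩ : ∃ r : ℕ, r.Prime ∧ r ≠ 2 ∧ r ∣ Nat.card H := by
      by_contra hcon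
      push Not at hcon
      exact hnp 2 Nat.prime_two (IsPGroup.iff_card.mpr ⟨_, Nat.eq_prime_pow_of_unique_prime_dvd
        Nat.card_pos.ne' fun {w} hw hwd => by_contra fun hw2 => hcon w hw hw2 hwd⟩)
    haveI := Fact.mk hr
    obtain ⟨x, hx⟩ := exists_prime_orderOf_dvd_card' (G := H) r hrd
    exact ⟨x, ne_one_of_order hr hx, (c.ab_or_prime hr hx).imp_right fun h => ⟨r, hr, hr2, h⟩⟩
  set M := c.M x with hM
  have hnil : Group.IsNilpotent M := by
    rcases hgood with h | ⟨p, hp, -, hP⟩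
    · exact c.isNilpotent_of_isAb h
    · haveI := Fact.mk hp
      exact hP.isNilpotent
  by_cases hcore : ∀ N : Subgroup H, N.Normal → N ≤ M → N = ⊥
  · have hsol : Group.IsSolvable H := by
      refine Frobenius.isSolvable_of_npc (c.coatom x hx) hnil hcore fun p _ P hPM hP1 hN => ?_
      rcases hgood with h | ⟨q, hq, hq2, hQ⟩
      · refine Transfer.hasNormalPComplement_of_normalizer_le_centralizer P ?_
        rw [hN]
        exact fun a ha => mem_centralizer_iff.mpr fun b hb => (h.commute c (hPM hb) ha).eq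
      · haveI := Fact.mk hq
        have hpq : p = q := by
          obtain ⟨a, ha⟩ := IsPGroup.iff_card.mp (P.2)
          obtain ⟨b, hb⟩ := IsPGroup.iff_card.mp hQ
          have ha0 : a ≠ 0 := fun h => hP1 (eq_bot_of_card_eq _ (by rw [ha, h, pow_zero]))
          have h1 := hb ▸ ha ▸ card_dvd_of_le hPM
          exact (Nat.prime_dvd_prime_iff_eq Fact.out hq).mp
            ((Fact.out : p.Prime).dvd_of_dvd_pow ((dvd_pow_self p ha0).trans h1))
        subst hpq
        have hPeq : (P : Subgroup H) = M := (P.3 hQ hPM).symm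
        refine Solvable.ThompsonComplement.hasNormalPComplement hq2 P ?_ ?_
        · set J := Cfsg.thompsonSubgroupOf p (P : Subgroup H) with hJ
          have hJP : J ≤ (P : Subgroup H) := map_subtype_le _
          have hle : M ≤ normalizer (J : Set H) := by
            rw [← hPeq, hJ, Cfsg.thompsonSubgroupOf]
            exact (normal_subgroupOf_iff_le_normalizer (map_subtype_le _)).mp (by
              rw [subgroupOf, comap_map_eq_self_of_injective (subtype_injective _)]
              infer_instance)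
          have heq : normalizer (J : Set H) = M := ((c.coatom x hx).le_iff.mp hle).resolve_left fun h =>
            Solvable.ThompsonComplement.thompsonSubgroupOf_ne_bot P.2 hP1
              (hcore J (normalizer_eq_top_iff.mp h) (hJP.trans hPM))
          rw [heq]
          exact PLocal.hasNormalPComplement_of_isPGroup hQ
        · set Z := (P : Subgroup H) ⊓ centralizer ((P : Subgroup H) : Set H) with hZ
          have hle : M ≤ centralizer (Z : Set H) := fun a ha => mem_centralizer_iff.mpr fun b hb =>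
            (mem_centralizer_iff.mp hb.2 a (hPeq.ge ha)).symm
          have hZ1 : Z ≠ ⊥ := by
            haveI : Nontrivial (P : Subgroup H) := (nontrivial_iff_ne_bot _).mpr hP1
            haveI := P.2.center_nontrivial
            obtain ⟨⟨z, hz⟩, hzne⟩ := exists_ne (1 : center (P : Subgroup H))
            intro h
            refine hzne (Subtype.ext (Subtype.ext (mem_bot.mp (h ▸ ⟨z.2, ?_⟩))))
            exact mem_centralizer_iff.mpr fun b hb => congrArg Subtype.val (mem_center_iff.mp hz ⟨b, hb⟩)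
          have heq : centralizer (Z : Set H) = M := ((c.coatom x hx).le_iff.mp hle).resolve_left fun h =>
            hZ1 (hcore Z ⟨fun a ha g => by
              rw [(mem_centralizer_iff.mp (h.ge (mem_top g)) a ha).symm, mul_inv_cancel_right]
              exact ha⟩ (inf_le_left.trans hPM))
          rw [heq]
          exact PLocal.hasNormalPComplement_of_isPGroup hQ
    exact exists_elem_normal_of_solvable (N := (⊤ : Subgroup H)) top_ne_bot inferInstance
  · push Not at hcore
    obtain ⟨N, hNn, hNM, hN1⟩ := hcore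
    haveI := hNn
    haveI : Group.IsNilpotent N := by
      haveI := hnil
      exact Group.nilpotent_of_mulEquiv (Subgroup.subgroupOfEquivOfLe hNM)
    exact exists_elem_normal_of_solvable hN1 inferInstance

/-- Some centralizer is normal. -/
theorem exists_normal (hnp : ∀ p : ℕ, p.Prime → ¬ IsPGroup p H) [Nontrivial H] :
    ∃ x, x ≠ 1 ∧ (c.M x).Normal := by
  by_contra hno
  push Not at hno
  obtain ⟨t, K₀, ht, hK₀n, hK₀1, hK₀e⟩ := c.exists_elem_normal hnp
  obtain ⟨K, hKK₀, ⟨hK1, hKn⟩, hKmin⟩ := (Set.toFinite {K : Subgroup H | K ≠ ⊥ ∧ K.Normal}).exists_le_minimal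
    (a := K₀) ⟨hK₀1, hK₀n⟩
  haveI := hKn
  haveI := Fact.mk ht
  have hKc : ∀ a ∈ K, ∀ b ∈ K, Commute a b := fun a ha b hb =>
    congrArg Subtype.val (hK₀e.1.1.comm ⟨a, hKK₀ ha⟩ ⟨b, hKK₀ hb⟩)
  have hKo : ∀ a ∈ K, a ≠ 1 → orderOf a = t := fun a ha ha1 =>
    orderOf_eq_prime (hK₀e.2 a (hKK₀ ha)) ha1
  obtain ⟨u, hu, hut, hud⟩ : ∃ r : ℕ, r.Prime ∧ r ≠ t ∧ r ∣ Nat.card H := by
    by_contra hcon
    push Not at hcon
    exact hnp t ht (IsPGroup.iff_card.mpr ⟨_, Nat.eq_prime_pow_of_unique_prime_dvd Nat.card_pos.ne'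
      fun {w} hw hwd => by_contra fun hwt => hcon w hw hwt hwd⟩)
  haveI := Fact.mk hu
  obtain ⟨v, hv⟩ := exists_prime_orderOf_dvd_card' (G := H) u hud
  have hv1 := ne_one_of_order hu hv
  by_cases hKv : K ⊓ c.M v = ⊥
  swap
  · set D := K ⊓ c.M v with hD
    obtain ⟨d, hd, hd1⟩ := (Subgroup.bot_or_exists_ne_one _).resolve_left hKv
    have hco : ∀ e ∈ D, e ≠ 1 → c.M v = c.M e := fun e he he1 =>
      c.eq_of_coprime hv1 he1 he.2 (by rw [hv, hKo e he.1 he1]; exact (Nat.coprime_primes hu ht).mpr hut)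
    have hDn : D.Normal := by
      by_cases hle : K ≤ c.M v
      · rw [hD, inf_eq_left.mpr hle]
        exact hKn
      rw [← normalizer_eq_top_iff]
      refine (c.coatom v hv1).2 _ (lt_of_le_of_ne (fun g hg => mem_normalizer_fintype fun e he =>
        ⟨hKn.conj_mem e he.1 g, (c.M v).mul_mem ((c.M v).mul_mem hg he.2) ((c.M v).inv_mem hg)⟩) ?_)
      intro heq
      refine hle fun a ha => ?_
      rw [heq]
      refine mem_normalizer_fintype fun e he => ?_
      rw [(hKc a ha e he.1).eq, mul_inv_cancel_right]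
      exact he
    refine hno v hv1 ⟨fun a ha g => ?_⟩
    have hgd := hDn.conj_mem d hd g
    rw [hco _ hgd (by simpa using hd1)]
    exact c.conj g d a (hco d hd hd1 ▸ ha)
  obtain ⟨k, hk, hk1⟩ := (Subgroup.bot_or_exists_ne_one K).resolve_left hK1
  have hKk : K ≤ c.M k := by
    by_contra hle
    have hCn : (K ⊓ c.M k).Normal := by
      rw [← normalizer_eq_top_iff]
      refine (c.coatom k hk1).2 _ (lt_of_le_of_ne (fun g hg => mem_normalizer_fintype fun e he =>
        ⟨hKn.conj_mem e he.1 g, (c.M k).mul_mem ((c.M k).mul_mem hg he.2) ((c.M k).inv_mem hg)⟩) ?_)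
      intro heq
      refine hle fun a ha => ?_
      rw [heq]
      refine mem_normalizer_fintype fun e he => ?_
      rw [(hKc a ha e he.1).eq, mul_inv_cancel_right]
      exact he
    have hCne : K ⊓ c.M k ≠ ⊥ := fun h => hk1 (by
      have hkC : k ∈ K ⊓ c.M k := ⟨hk, c.self k⟩
      rw [h, mem_bot] at hkC
      exact hkC)
    exact hle (le_trans (hKmin (show K ⊓ c.M k ∈ {K : Subgroup H | K ≠ ⊥ ∧ K.Normal} from ⟨hCne, hCn⟩)
      inf_le_left) inf_le_right)
  have htop : K ⊔ c.M v = ⊤ := (c.coatom v hv1).2 _ (lt_of_le_of_ne le_sup_right fun h =>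
    hk1 (mem_bot.mp (hKv ▸ ⟨hk, h.ge (mem_sup_left hk)⟩)))
  obtain ⟨w, hw, hw1⟩ : ∃ w ∈ c.M k ⊓ c.M v, w ≠ 1 := by
    refine (Subgroup.bot_or_exists_ne_one _).resolve_left fun hbot => hno k hk1 ?_
    have heq : c.M k = K := by
      refine le_antisymm (fun a ha => ?_) hKk
      have ha' : a ∈ K ⊔ c.M v := htop ▸ mem_top a
      rw [← SetLike.mem_coe, Subgroup.normal_mul] at ha'
      obtain ⟨z, hz, b, hb, rfl⟩ := Set.mem_mul.mp ha'
      have hbk : b ∈ c.M k := by
        have := (c.M k).mul_mem ((c.M k).inv_mem (hKk hz)) ha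
        rwa [inv_mul_cancel_left] at this
      rw [show b = 1 from mem_bot.mp (hbot ▸ ⟨hbk, hb⟩), mul_one]
      exact hz
    rw [heq]
    exact hKn
  have hkv : k ∉ c.M v := fun h => hk1 (mem_bot.mp (hKv ▸ ⟨hk, h⟩))
  rcases c.ab_or_prime hu hv with hAb | hP
  · exact hkv (hAb w hw.2 hw1 ▸ c.symm _ _ hw.1)
  · obtain ⟨m, hm⟩ := IsPGroup.iff_card.mp hP
    have hco : c.M k = c.M w := c.eq_of_coprime hk1 hw1 hw.1 (by
      obtain ⟨j, -, hj⟩ := (Nat.dvd_prime_pow hu).mp (hm ▸ _root_.Subgroup.orderOf_dvd_natCard _ hw.2)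
      rw [hKo k hk hk1, hj]
      exact ((Nat.coprime_primes ht hu).mpr hut.symm).pow_right j)
    exact hkv (c.symm _ _ (hco ▸ c.symm _ _ hw.2))

end CMap

variable {G : Type u} [Group G] [Finite G]

theorem main (hna : ¬ IsMulCommutative G)
    (h : ∀ x : G, x ∉ center G → IsCoatom (centralizer ({x} : Set G))) :
    (∃ p : ℕ, p.Prime ∧ Cfsg.IsElementaryAbelian p (⊤ : Subgroup (G ⧸ center G))) ∨
    (¬ IsMulCommutative (G ⧸ center G) ∧
      (∀ H : Subgroup (G ⧸ center G), H ≠ ⊤ → IsMulCommutative H) ∧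
      ∃ p q a : ℕ, p.Prime ∧ q.Prime ∧ p ≠ q ∧ Nat.card (G ⧸ center G) = p ^ a * q ∧
        ∀ P : Subgroup (G ⧸ center G), Nat.card P = p ^ a → P.Normal) := by
  classical
  set π := QuotientGroup.mk' (center G) with hπ
  have hsurj : Function.Surjective π := QuotientGroup.mk'_surjective _
  obtain ⟨s, hs⟩ := hsurj.hasRightInverse
  let M : G ⧸ center G → Subgroup (G ⧸ center G) := fun x => (centralizer ({s x} : Set G)).map π
  have hlift : ∀ {a a' : G}, π a = π a' → ∃ z ∈ center G, a' = a * z := fun {a a'} hh =>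
    ⟨a⁻¹ * a', QuotientGroup.eq.mp hh, by simp⟩
  have hmem : ∀ a b : G, π b ∈ M (π a) ↔ Commute a b := by
    intro a b
    obtain ⟨z, hz, hz'⟩ := hlift (hs (π a)).symm
    rw [mem_center_iff] at hz
    have hzc : ∀ g, Commute g z := hz
    constructor
    · rintro ⟨b', hb', hbb⟩
      obtain ⟨w, hw, rfl⟩ := hlift hbb
      rw [mem_center_iff] at hw
      have hwc : ∀ g, Commute g w := hw
      have h1 : Commute (s (π a)) b' := (mem_centralizer_singleton_iff.mp hb').symm
      rw [hz'] at h1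
      have h2 : Commute a b' := by
        have := h1.mul_left ((hzc b').symm.inv_left)
        rwa [mul_inv_cancel_right] at this
      exact h2.mul_right (hwc a)
    · intro hab
      refine ⟨b, mem_centralizer_singleton_iff.mpr ?_, rfl⟩
      rw [hz']
      exact ((hab.mul_left (hzc b).symm).eq).symm
  have hcomap : ∀ a, (M (π a)).comap π = centralizer ({a} : Set G) := fun a => by
    ext b
    rw [mem_comap, hmem, mem_centralizer_singleton_iff]
    exact ⟨fun hh => hh.eq.symm, fun hh => hh.symm⟩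
  have hone : ∀ a, π a = 1 ↔ a ∈ center G := fun a => QuotientGroup.eq_one_iff a
  let c : CMap (G ⧸ center G) :=
    { M := M
      coatom := fun x hx => by
        obtain ⟨a, rfl⟩ := hsurj x
        have hco := h a fun ha => hx ((hone a).mpr ha)
        refine ⟨fun ht => hco.1 (by rw [← hcomap, ht, comap_top]), fun N hN => ?_⟩
        refine comap_injective hsurj (Eq.trans (hco.2 _ ?_) (comap_top _).symm)
        rw [← hcomap]
        exact (comap_lt_comap_of_surjective hsurj).mpr hN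
      self := fun x => by
        obtain ⟨a, rfl⟩ := hsurj x
        exact (hmem a a).mpr rfl
      symm := fun x y hy => by
        obtain ⟨a, rfl⟩ := hsurj x
        obtain ⟨b, rfl⟩ := hsurj y
        exact (hmem b a).mpr ((hmem a b).mp hy).symm
      comm := fun x y hy => by
        obtain ⟨a, rfl⟩ := hsurj x
        obtain ⟨b, rfl⟩ := hsurj y
        exact ((hmem a b).mp hy).map π
      conj := fun g x y hy => by
        obtain ⟨a, rfl⟩ := hsurj x
        obtain ⟨b, rfl⟩ := hsurj y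
        obtain ⟨d, rfl⟩ := hsurj g
        rw [← map_inv, ← map_mul, ← map_mul, ← map_mul, ← map_mul, hmem]
        exact ((hmem a b).mp hy).map (MulAut.conj d)
      mul := fun x y w hw => by
        obtain ⟨a, rfl⟩ := hsurj x
        obtain ⟨b, rfl⟩ := hsurj y
        obtain ⟨d, rfl⟩ := hsurj w
        rw [← map_mul, hmem]
        exact ((hmem a d).mp hw.1).mul_left ((hmem b d).mp hw.2)
      pow := fun x n w hw => by
        obtain ⟨a, rfl⟩ := hsurj x
        obtain ⟨d, rfl⟩ := hsurj w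
        rw [← map_pow, hmem]
        exact ((hmem a d).mp hw).pow_left n }
  haveI : Nontrivial (G ⧸ center G) := QuotientGroup.nontrivial_iff.mpr fun ht =>
    hna ⟨⟨fun a b => mem_center_iff.mp (ht.ge (mem_top b)) a⟩⟩
  by_cases hp : ∃ p : ℕ, p.Prime ∧ IsPGroup p (G ⧸ center G)
  · obtain ⟨p, hp, hP⟩ := hp
    exact Or.inl ⟨p, hp, c.elementary_of_isPGroup hp hP⟩
  push Not at hp
  obtain ⟨x, hx, hn⟩ := c.exists_normal hp
  obtain ⟨z, hz, hzn, hzab⟩ := c.exists_normal_ab hp hx hn
  exact Or.inr (c.structure_of_normal_ab hp hz hzn hzab)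

end Cfsg.Agent.Lib.MaximalCentralizers
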