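import Cfsg.Agent.Lib.Frobenius.Complement
import Cfsg.Agent.Lib.Frobenius.Kernel
import Cfsg.Agent.Lib.Solvable.FixedPointFree
import Cfsg.Agent.Lib.Solvable.ThompsonComplement
import Cfsg.Agent.Lib.PLocal.ClosedTest
import Cfsg.Agent.Lib.PLocal.Thompson
import Cfsg.Agent.Lib.Coprime.Hall
import Cfsg.Agent.Lib.PrimeGraphFour.Basic

/-!
Normal subgroups whose noncentral elements have maximal centralizers in the whole group.
-/

set_option autoImplicit false

open Subgroup
open scoped commutatorElement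

universe u

namespace Cfsg.Agent.Lib.MaximalCentralizers

open Cfsg.Agent.Lib

/-- A group `H` with operators from `G`, a centralizer map and the maximality property. -/
structure GMap (G : Type u) [Group G] (H : Type u) [Group H] where
  φ : G →* MulAut H
  M : H → Subgroup H
  T : H → Subgroup G
  inner : ∀ h : H, ∃ g, φ g = MulAut.conj h
  proper : ∀ x, x ≠ 1 → M x ≠ ⊤
  self : ∀ x, x ∈ M x
  symm : ∀ x y, y ∈ M x → x ∈ M y
  comm : ∀ x y, y ∈ M x → Commute x y
  equiv : ∀ g x y, y ∈ M x → φ g y ∈ M (φ g x)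
  fixed : ∀ x g, g ∈ T x → ∀ y ∈ M x, φ g y ∈ M x
  pow : ∀ x (n : ℕ), x ^ n ≠ 1 → M x = M (x ^ n)
  cop : ∀ x y (t u : ℕ), t.Prime → u.Prime → t ≠ u → orderOf x = t → orderOf y = u → Commute x y →
    y ∈ M x ∧ M x = M y
  crit : ∀ x, x ≠ 1 → ∀ X : Subgroup H, M x ≤ X → (∀ g ∈ T x, ∀ z ∈ X, φ g z ∈ X) → X = M x ∨ X = ⊤
  grow : ∀ x, x ≠ 1 → ∀ (X : Subgroup H) (h : H), (∀ g ∈ T x, ∀ z ∈ X, φ g z ∈ X) → h ∉ M x →
    (∀ z ∈ X, h * z * h⁻¹ ∈ X) → ∀ g, ∀ z ∈ X, φ g z ∈ X

variable {G : Type u} [Group G] {H : Type u} [Group H] [Finite H] (c : GMap G H)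

theorem exists_prime_pow {x : H} (hx : x ≠ 1) : ∃ (t n : ℕ), t.Prime ∧ orderOf (x ^ n) = t := by
  obtain ⟨t, ht, htd⟩ := Nat.exists_prime_and_dvd (fun h => hx (orderOf_eq_one_iff.mp h))
  exact ⟨t, orderOf x / t, ht, orderOf_pow_orderOf_div (orderOf_pos x).ne' htd⟩

theorem ne_one_of_prime {x : H} {t : ℕ} (ht : t.Prime) (hx : orderOf x = t) : x ≠ 1 := fun h => by
  rw [h, orderOf_one] at hx
  exact ht.ne_one hx.symm

theorem exists_prime_ne (hnp : ∀ p : ℕ, p.Prime → ¬ IsPGroup p H) {t : ℕ} (ht : t.Prime) :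
    ∃ (u : ℕ) (v : H), u.Prime ∧ u ≠ t ∧ orderOf v = u := by
  obtain ⟨u, hu, hut, hud⟩ : ∃ r : ℕ, r.Prime ∧ r ≠ t ∧ r ∣ Nat.card H := by
    by_contra hcon
    push Not at hcon
    haveI := Fact.mk ht
    exact hnp t ht (IsPGroup.iff_card.mpr ⟨_, Nat.eq_prime_pow_of_unique_prime_dvd Nat.card_pos.ne'
      fun {w} hw hwd => by_contra fun hwt => hcon w hw hwt hwd⟩)
  haveI := Fact.mk hu
  obtain ⟨v, hv⟩ := exists_prime_orderOf_dvd_card' (G := H) u hud
  exact ⟨u, v, hu, hut, hv⟩

namespace GMap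

theorem conj_mem {a x y : H} (hy : y ∈ c.M x) : a * y * a⁻¹ ∈ c.M (a * x * a⁻¹) := by
  obtain ⟨g, hg⟩ := c.inner a
  have := c.equiv g x y hy
  rwa [hg] at this

theorem conj_inv {X : Subgroup H} (hX : ∀ g, ∀ z ∈ X, c.φ g z ∈ X) : X.Normal := ⟨fun z hz a => by
  obtain ⟨g, hg⟩ := c.inner a
  have := hX g z hz
  rwa [hg] at this⟩

/-- The normalizer of an invariant subgroup is invariant. -/
theorem normalizer_inv {X : Subgroup H} {g : G} (hX : ∀ z ∈ X, c.φ g z ∈ X) {a : H}
    (ha : a ∈ normalizer (X : Set H)) : c.φ g a ∈ normalizer (X : Set H) := by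
  refine mem_normalizer_fintype fun z hz => ?_
  obtain ⟨⟨w, hw⟩, hwz⟩ : ∃ w : X, (⟨c.φ g w, hX _ w.2⟩ : X) = ⟨z, hz⟩ :=
    Finite.surjective_of_injective (fun a b hab => Subtype.ext ((c.φ g).injective
      (congrArg Subtype.val hab))) _
  have hz' : c.φ g w = z := congrArg Subtype.val hwz
  rw [← hz', ← map_inv, ← map_mul, ← map_mul]
  exact hX _ ((mem_normalizer_iff.mp ha w).mp hw)

/-- The centralizer of an invariant subgroup is invariant. -/
theorem centralizer_inv {X : Subgroup H} {g : G} (hX : ∀ z ∈ X, c.φ g z ∈ X) {a : H}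
    (ha : a ∈ centralizer (X : Set H)) : c.φ g a ∈ centralizer (X : Set H) := by
  refine mem_centralizer_iff.mpr fun z hz => ?_
  obtain ⟨⟨w, hw⟩, hwz⟩ : ∃ w : X, (⟨c.φ g w, hX _ w.2⟩ : X) = ⟨z, hz⟩ :=
    Finite.surjective_of_injective (fun a b hab => Subtype.ext ((c.φ g).injective
      (congrArg Subtype.val hab))) _
  have hz' : c.φ g w = z := congrArg Subtype.val hwz
  rw [← hz', ← map_mul, ← map_mul, mem_centralizer_iff.mp ha w hw]

/-- Abelian type. -/
def IsAb (A : Subgroup H) : Prop := ∀ a ∈ A, a ≠ 1 → c.M a = A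

theorem IsAb.commute {A : Subgroup H} (h : c.IsAb A) {a b : H} (ha : a ∈ A) (hb : b ∈ A) :
    Commute a b := by
  rcases eq_or_ne a 1 with rfl | ha1
  · exact Commute.one_left b
  · exact c.comm a b ((h a ha ha1).symm ▸ hb)

theorem ab_or_prime {x : H} {t : ℕ} (ht : t.Prime) (hx : orderOf x = t) :
    c.IsAb (c.M x) ∨ IsPGroup t (c.M x) := by
  by_cases hq : ∃ w ∈ c.M x, ∃ u : ℕ, u.Prime ∧ u ≠ t ∧ orderOf w = u
  · left
    obtain ⟨w, hw, u, hu, hut, hwo⟩ := hq
    have hxw : c.M x = c.M w := (c.cop x w t u ht hu hut.symm hx hwo (c.comm x w hw)).2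
    intro a ha ha1
    obtain ⟨s, n, hs, hn⟩ := exists_prime_pow ha1
    have hb : a ^ n ∈ c.M x := Subgroup.pow_mem _ ha n
    rw [c.pow a n (ne_one_of_prime hs hn)]
    by_cases hst : s = t
    · rw [hxw] at hb ⊢
      exact (c.cop w _ u s hu hs (hst ▸ hut) hwo hn (c.comm _ _ hb)).2.symm
    · exact (c.cop x _ t s ht hs (Ne.symm hst) hx hn (c.comm _ _ hb)).2.symm
  · right
    push Not at hq
    haveI := Fact.mk ht
    refine IsPGroup.iff_card.mpr ⟨_, Nat.eq_prime_pow_of_unique_prime_dvd Nat.card_pos.ne'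
      fun {w} hw hwd => ?_⟩
    haveI := Fact.mk hw
    obtain ⟨⟨a, haM⟩, ha⟩ := exists_prime_orderOf_dvd_card' (G := c.M x) w hwd
    by_contra hwt
    exact hq a haM w hw hwt (by rwa [Subgroup.orderOf_mk] at ha)

/-- The elements central of exponent `u` modulo a normal subgroup. -/
def modCenter (u : ℕ) (K : Subgroup H) [hK : K.Normal] : Subgroup H where
  carrier := {a | (∀ b, ⁅a, b⁆ ∈ K) ∧ a ^ u ∈ K}
  one_mem' := ⟨fun b => by simp, by simp⟩
  mul_mem' := fun {a a'} ha ha' => by
    refine ⟨fun b => ?_, ?_⟩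
    · rw [show ⁅a * a', b⁆ = a * ⁅a', b⁆ * a⁻¹ * ⁅a, b⁆ by simp only [commutatorElement_def]; group]
      exact K.mul_mem (hK.conj_mem _ (ha'.1 b) a) (ha.1 b)
    · have hc : Commute (QuotientGroup.mk' K a) (QuotientGroup.mk' K a') := by
        rw [← commutatorElement_eq_one_iff_commute, ← map_commutatorElement]
        exact (QuotientGroup.eq_one_iff _).mpr (ha.1 a')
      refine (QuotientGroup.eq_one_iff _).mp ?_
      show QuotientGroup.mk' K ((a * a') ^ u) = 1
      rw [map_pow, map_mul, hc.mul_pow, ← map_pow, ← map_pow,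
        show QuotientGroup.mk' K (a ^ u) = 1 from (QuotientGroup.eq_one_iff _).mpr ha.2,
        show QuotientGroup.mk' K (a' ^ u) = 1 from (QuotientGroup.eq_one_iff _).mpr ha'.2, one_mul]
  inv_mem' := fun {a} ha => by
    refine ⟨fun b => ?_, by rw [inv_pow]; exact K.inv_mem ha.2⟩
    rw [show ⁅a⁻¹, b⁆ = a⁻¹ * ⁅a, b⁆⁻¹ * a⁻¹⁻¹ by simp only [commutatorElement_def]; group]
    exact hK.conj_mem _ (K.inv_mem (ha.1 b)) a⁻¹

theorem modCenter_inv {u : ℕ} {K : Subgroup H} [K.Normal] {g : G} (hK : ∀ z ∈ K, c.φ g z ∈ K) {a : H}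
    (ha : a ∈ modCenter u K) : c.φ g a ∈ modCenter u K := by
  refine ⟨fun b => ?_, by rw [← map_pow]; exact hK _ ha.2⟩
  obtain ⟨b, rfl⟩ := (c.φ g).surjective b
  rw [← map_commutatorElement]
  exact hK _ (ha.1 b)

include c in
theorem elementary_of_isPGroup {p : ℕ} (hp : p.Prime) (h : IsPGroup p H) :
    Cfsg.IsElementaryAbelian p (⊤ : Subgroup H) := by
  haveI := Fact.mk hp
  haveI := h.isNilpotent
  have key : ∀ a : H, (∀ y, y ≠ 1 → a ∈ c.M y) → a = 1 := by
    intro a ha
    by_contra ha1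
    refine c.proper a ha1 (eq_top_iff.mpr fun y _ => ?_)
    rcases eq_or_ne y 1 with rfl | hy
    · exact one_mem _
    · exact c.symm _ _ (ha y hy)
  have hall : ∀ y, y ≠ 1 → ∀ a : H, (∀ b, ⁅a, b⁆ ∈ c.M y) ∧ a ^ p ∈ c.M y := by
    intro y hy
    obtain ⟨e, he, heM⟩ := SetLike.exists_of_lt (Group.normalizerCondition_of_isNilpotent _
      (lt_top_iff_ne_top.mpr (c.proper y hy)))
    have hinv := c.grow y hy (c.M y) e (fun g hg z hz => c.fixed y g hg z hz) heM
      fun z hz => (mem_normalizer_iff.mp he z).mp hz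
    haveI hn := c.conj_inv hinv
    have htop : modCenter p (c.M y) = ⊤ := by
      have hle : c.M y ≤ modCenter p (c.M y) := fun a ha => by
        refine ⟨fun b => ?_, Subgroup.pow_mem _ ha p⟩
        rw [show ⁅a, b⁆ = a * (b * a⁻¹ * b⁻¹) by simp only [commutatorElement_def]; group]
        exact mul_mem ha (hn.conj_mem _ (inv_mem ha) b)
      refine (c.crit y hy _ hle
        (fun g _ z hz => c.modCenter_inv (hinv g) hz)).resolve_left fun heq => ?_
      · haveI : Nontrivial (H ⧸ c.M y) := QuotientGroup.nontrivial_iff.mpr (c.proper y hy)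
        haveI := (h.to_quotient (c.M y)).center_nontrivial
        obtain ⟨q, hq⟩ := exists_prime_orderOf_dvd_card' (G := center (H ⧸ c.M y)) p (by
          obtain ⟨n, hn⟩ := IsPGroup.iff_card.mp ((h.to_quotient (c.M y)).to_subgroup (center _))
          have h1 : 1 < Nat.card (center (H ⧸ c.M y)) := Finite.one_lt_card
          rw [hn] at h1 ⊢
          exact dvd_pow_self p fun h0 => by rw [h0, pow_zero] at h1; exact lt_irrefl _ h1)
        obtain ⟨a, ha⟩ := QuotientGroup.mk'_surjective (c.M y) (q : H ⧸ c.M y)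
        have hqo : orderOf (q : H ⧸ c.M y) = p := by rw [Subgroup.orderOf_coe, hq]
        have ham : a ∈ modCenter p (c.M y) := ⟨fun b => (QuotientGroup.eq_one_iff _).mp (by
            show QuotientGroup.mk' (c.M y) ⁅a, b⁆ = 1
            rw [map_commutatorElement, ha, commutatorElement_eq_one_iff_mul_comm]
            exact (mem_center_iff.mp q.2 _).symm),
          (QuotientGroup.eq_one_iff _).mp (by
            show QuotientGroup.mk' (c.M y) (a ^ p) = 1
            rw [map_pow, ha, ← hqo, pow_orderOf_eq_one])⟩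
        rw [heq] at ham
        refine ne_one_of_prime hp hqo ?_
        rw [← ha]
        exact (QuotientGroup.eq_one_iff a).mpr ham
    exact fun a => htop.ge (mem_top a)
  refine ⟨⟨⟨fun a b => Subtype.ext ?_⟩⟩, fun a _ => key _ fun y hy => (hall y hy a).2⟩
  exact commutatorElement_eq_one_iff_mul_comm.mp (key _ fun y hy => (hall y hy a).1 b)

include c in
theorem exists_nilpotent_normal (hnp : ∀ p : ℕ, p.Prime → ¬ IsPGroup p H) [Nontrivial H] :
    ∃ N : Subgroup H, N.Normal ∧ N ≠ ⊥ ∧ Group.IsNilpotent N := by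
  by_contra hno
  push Not at hno
  have hcore : ∀ N : Subgroup H, N.Normal → Group.IsNilpotent N → N = ⊥ := fun N h1 h2 =>
    by_contra fun h3 => hno N h1 h3 h2
  have hnil : ∀ x : H, x ≠ 1 → Group.IsNilpotent (c.M x) := by
    intro x hx
    obtain ⟨t, n, ht, hn⟩ := exists_prime_pow hx
    rw [c.pow x n (ne_one_of_prime ht hn)]
    rcases c.ab_or_prime ht hn with h | h
    · letI : CommGroup (c.M (x ^ n)) := { (inferInstance : Group (c.M (x ^ n))) with
        mul_comm := fun a b => Subtype.ext (h.commute c a.2 b.2).eq }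
      exact inferInstance
    · haveI := Fact.mk ht
      exact h.isNilpotent
  -- every centralizer is its own normalizer
  have hNM : ∀ x : H, x ≠ 1 → normalizer (c.M x : Set H) = c.M x := by
    intro x hx
    refine (c.crit x hx _ le_normalizer fun g hg a ha => c.normalizer_inv (c.fixed x g hg) ha).resolve_right
      fun h => ?_
    have hbot := hcore (c.M x) (normalizer_eq_top_iff.mp h) (hnil x hx)
    exact hx (mem_bot.mp (hbot ▸ c.self x))
  by_cases hab : ∃ x, x ≠ 1 ∧ c.IsAb (c.M x)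
  · obtain ⟨x, hx, hA⟩ := hab
    set A := c.M x with hAdef
    have hFC : Cfsg.IsFrobeniusComplement A := by
      refine Frobenius.isFrobeniusComplement_iff.mpr ⟨fun h => hx (mem_bot.mp (h ▸ c.self x)),
        c.proper x hx, fun g hg a ha hga => by_contra fun ha1 => hg ?_⟩
      have e1 : c.M (g⁻¹ * a * g) = A := hA _ hga (fun h => ha1 (by
        calc a = g * (g⁻¹ * a * g) * g⁻¹ := by group
          _ = 1 := by rw [h]; group))
      have h2 : g ∈ normalizer (A : Set H) := mem_normalizer_fintype fun b hb => by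
        have h3 := c.conj_mem (a := g) (x := g⁻¹ * a * g) (y := b) (by rw [e1]; exact hb)
        rwa [show g * (g⁻¹ * a * g) * g⁻¹ = a by group, hA a ha ha1] at h3
      rwa [hAdef, hNM x hx] at h2
    obtain ⟨K, hKn, hKset, -, -, hK1, -, -⟩ := Frobenius.exists_frobeniusKernel hFC
    have hfp := Frobenius.frobeniusKernel_fixedPointFree hFC hKset
    haveI := hKn
    obtain ⟨r, n, hr, hn⟩ := exists_prime_pow hx
    refine hno K hKn hK1 (Solvable.FixedPointFree.isNilpotent_of_fixedPointFree hr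
      (MulAut.conjNormal (H := K) (x ^ n)) (by rw [← map_pow, ← hn, pow_orderOf_eq_one, map_one])
      fun k hk => Subtype.ext (hfp _ (Subgroup.pow_mem _ (c.self x) n) (ne_one_of_prime hr hn) k k.2
        (mul_inv_eq_iff_eq_mul.mp (congrArg Subtype.val hk))))
  push Not at hab
  obtain ⟨p, x, hp, hp2, hxo⟩ := exists_prime_ne hnp Nat.prime_two
  haveI := Fact.mk hp
  have hx := ne_one_of_prime hp hxo
  have hP : IsPGroup p (c.M x) := (c.ab_or_prime hp hxo).resolve_left (hab x hx)
  obtain ⟨P, hP'⟩ := hP.exists_le_sylow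
  have hPeq : (P : Subgroup H) = c.M x := by
    by_contra hne
    have hlt : (c.M x).subgroupOf (P : Subgroup H) < ⊤ := lt_top_iff_ne_top.mpr fun h => by
      rw [subgroupOf_eq_top] at h
      exact hne (le_antisymm h hP')
    haveI := P.2.isNilpotent
    obtain ⟨e, he, heM⟩ := SetLike.exists_of_lt (Group.normalizerCondition_of_isNilpotent _ hlt)
    refine heM (show (e : H) ∈ c.M x from ?_)
    rw [← hNM x hx]
    exact mem_normalizer_fintype fun a ha => (mem_normalizer_iff.mp he ⟨a, hP' ha⟩).mp ha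
  have hP1 : (P : Subgroup H) ≠ ⊥ := fun h => hx (mem_bot.mp (h ▸ hPeq.ge (c.self x)))
  have hNPC : Cfsg.HasNormalPComplement p H := by
    refine Solvable.ThompsonComplement.hasNormalPComplement hp2 P ?_ ?_
    · set J := Cfsg.thompsonSubgroupOf p (P : Subgroup H) with hJ
      have hJP : J ≤ (P : Subgroup H) := map_subtype_le _
      have hle : c.M x ≤ normalizer (J : Set H) := by
        rw [← hPeq, hJ, Cfsg.thompsonSubgroupOf]
        exact (normal_subgroupOf_iff_le_normalizer (map_subtype_le _)).mp (by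
          rw [subgroupOf, comap_map_eq_self_of_injective (subtype_injective _)]
          infer_instance)
      have heq : normalizer (J : Set H) = c.M x := by
        refine (c.crit x hx _ hle fun g hg a ha => c.normalizer_inv (fun z hz => ?_) ha).resolve_right
          fun h => Solvable.ThompsonComplement.thompsonSubgroupOf_ne_bot P.2 hP1
            (hcore J (normalizer_eq_top_iff.mp h) (by
              haveI := (P.2.to_le hJP).isNilpotent
              exact inferInstance))
        have hmap : (P : Subgroup H).map (c.φ g : H ≃* H).toMonoidHom = (P : Subgroup H) := by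
          refine eq_of_le_of_card_ge ?_ ?_
          · rintro _ ⟨a, ha, rfl⟩
            exact hPeq.ge (c.fixed x g hg a (hPeq.le ha))
          · rw [card_map_of_injective (c.φ g).injective]
        have h1 := Solvable.ThompsonComplement.thompsonSubgroupOf_map p (c.φ g : H ≃* H).toMonoidHom
          (c.φ g).injective (P : Subgroup H)
        rw [hmap] at h1
        exact h1.ge ⟨z, hz, rfl⟩
      rw [heq]
      exact PLocal.hasNormalPComplement_of_isPGroup hP
    · set Z := (P : Subgroup H) ⊓ centralizer ((P : Subgroup H) : Set H) with hZ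
      have hle : c.M x ≤ centralizer (Z : Set H) := fun a ha => mem_centralizer_iff.mpr fun b hb =>
        (mem_centralizer_iff.mp hb.2 a (hPeq.ge ha)).symm
      have hZ1 : Z ≠ ⊥ := by
        haveI : Nontrivial (P : Subgroup H) := (nontrivial_iff_ne_bot _).mpr hP1
        haveI := P.2.center_nontrivial
        obtain ⟨⟨z, hz⟩, hzne⟩ := exists_ne (1 : center (P : Subgroup H))
        intro h
        refine hzne (Subtype.ext (Subtype.ext (mem_bot.mp (h ▸ ⟨z.2, ?_⟩))))
        exact mem_centralizer_iff.mpr fun b hb => congrArg Subtype.val (mem_center_iff.mp hz ⟨b, hb⟩)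
      have heq : centralizer (Z : Set H) = c.M x := by
        refine (c.crit x hx _ hle fun g hg a ha => c.centralizer_inv (fun z hz => ?_) ha).resolve_right
          fun h => hZ1 (hcore Z ⟨fun a ha g => by
              rw [(mem_centralizer_iff.mp (h.ge (mem_top g)) a ha).symm, mul_inv_cancel_right]
              exact ha⟩ (by
              haveI := (P.2.to_le (inf_le_left : Z ≤ _)).isNilpotent
              exact inferInstance))
        have hPinv : ∀ b ∈ (P : Subgroup H), c.φ g b ∈ (P : Subgroup H) := fun b hb =>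
          hPeq.ge (c.fixed x g hg b (hPeq.le hb))
        exact ⟨hPinv z hz.1, c.centralizer_inv hPinv hz.2⟩
      rw [heq]
      exact PLocal.hasNormalPComplement_of_isPGroup hP
  obtain ⟨P', K, hKn, hKc⟩ := hNPC
  haveI := hKn
  have hK1 : K ≠ ⊥ := fun h => hnp p hp (by
    obtain ⟨n, hn⟩ := IsPGroup.iff_card.mp P'.2
    refine IsPGroup.of_card (n := n) ?_
    rw [← hKc.card_mul, h, Subgroup.card_bot, one_mul, hn])
  have hKp : ¬ p ∣ Nat.card K := by
    rw [← hKc.index_eq_card]
    exact P'.not_dvd_index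
  refine hno K hKn hK1 (Solvable.FixedPointFree.isNilpotent_of_fixedPointFree hp
    (MulAut.conjNormal (H := K) x) (by rw [← map_pow, ← hxo, pow_orderOf_eq_one, map_one])
    fun k hk => by_contra fun hk1 => ?_)
  have hxk : Commute x (k : H) := mul_inv_eq_iff_eq_mul.mp (congrArg Subtype.val hk)
  obtain ⟨u, n, hu, hn⟩ := exists_prime_pow (fun h => hk1 (Subtype.ext h) : (k : H) ≠ 1)
  have hkK : (k : H) ^ n ∈ K := K.pow_mem k.2 n
  have hup : p ≠ u := fun h => hKp (h ▸ hn ▸ _root_.Subgroup.orderOf_dvd_natCard K hkK)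
  have hmem := (c.cop x _ p u hp hu hup hxo hn (hxk.pow_right n)).1
  obtain ⟨m, hm⟩ := IsPGroup.iff_card.mp hP
  have h1 := hn ▸ hm ▸ _root_.Subgroup.orderOf_dvd_natCard _ hmem
  exact hup ((Nat.prime_dvd_prime_iff_eq hu hp).mp (hu.dvd_of_dvd_pow h1)).symm

include c in
/-- A minimal invariant elementary subgroup inside a nilpotent invariant one. -/
theorem exists_min_elem (hnp : ∀ p : ℕ, p.Prime → ¬ IsPGroup p H) [Nontrivial H] :
    ∃ (t : ℕ) (K : Subgroup H), t.Prime ∧ K ≠ ⊥ ∧ Cfsg.IsElementaryAbelian t K ∧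
      (∀ g, ∀ z ∈ K, c.φ g z ∈ K) ∧
      ∀ X : Subgroup H, X ≤ K → (∀ g, ∀ z ∈ X, c.φ g z ∈ X) → X = ⊥ ∨ X = K := by
  obtain ⟨N, hNn, hN1, hNnil⟩ := c.exists_nilpotent_normal hnp
  haveI := hNn
  obtain ⟨t, U, ht, hUn, hU1, -, hUc, hUp, -⟩ :=
    Coprime.exists_normal_abelian_pgroup_le hN1 (by haveI := hNnil; infer_instance)
  haveI := Fact.mk ht
  set F := Cfsg.pCore t H with hF
  have hF1 : F ≠ ⊥ := fun h => hU1 (le_bot_iff.mp (h ▸ Cores.le_pCore hUn hUp))
  haveI hFc : F.Characteristic := Cores.pCore_characteristic t H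
  have hFinv : ∀ g, ∀ z ∈ F, c.φ g z ∈ F := fun g z hz =>
    (characteristic_iff_map_le.mp hFc (c.φ g)) ⟨z, hz, rfl⟩
  let E : Subgroup H :=
    { carrier := {a | a ∈ F ∧ a ^ t = 1 ∧ ∀ b ∈ F, Commute a b}
      one_mem' := ⟨F.one_mem, one_pow _, fun b _ => Commute.one_left b⟩
      mul_mem' := fun {a b} ha hb => ⟨F.mul_mem ha.1 hb.1,
        by rw [(ha.2.2 b hb.1).mul_pow, ha.2.1, hb.2.1, one_mul],
        fun d hd => (ha.2.2 d hd).mul_left (hb.2.2 d hd)⟩
      inv_mem' := fun {a} ha => ⟨F.inv_mem ha.1, by rw [inv_pow, ha.2.1, inv_one],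
        fun d hd => (ha.2.2 d hd).inv_left⟩ }
  have hEinv : ∀ g, ∀ z ∈ E, c.φ g z ∈ E := fun g z hz => ⟨hFinv g z hz.1,
    by rw [← map_pow, hz.2.1, map_one], fun b hb => by
      have h1 := hz.2.2 (c.φ g⁻¹ b) (hFinv _ b hb)
      have h2 := h1.map (c.φ g)
      simp only [map_inv, MulAut.inv_apply_self] at h2
      simpa using h2⟩
  have hE1 : E ≠ ⊥ := by
    have hFp : IsPGroup t F := Cores.pCore_isPGroup t H
    haveI : Nontrivial F := (nontrivial_iff_ne_bot _).mpr hF1
    haveI := hFp.center_nontrivial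
    obtain ⟨z, hz⟩ := exists_prime_orderOf_dvd_card' (G := center F) t (by
      obtain ⟨n, hn⟩ := IsPGroup.iff_card.mp (hFp.to_subgroup (center F))
      have h1 : 1 < Nat.card (center F) := Finite.one_lt_card
      rw [hn] at h1 ⊢
      exact dvd_pow_self t fun h0 => by rw [h0, pow_zero] at h1; exact lt_irrefl _ h1)
    have hzo : orderOf ((z : F) : H) = t := by rw [Subgroup.orderOf_coe, Subgroup.orderOf_coe, hz]
    intro h
    have hzE : ((z : F) : H) ∈ E := ⟨(z : F).2, hzo ▸ pow_orderOf_eq_one _, fun b hb =>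
      congrArg Subtype.val (mem_center_iff.mp z.2 ⟨b, hb⟩).symm⟩
    rw [h, mem_bot] at hzE
    exact ne_one_of_prime ht hzo hzE
  obtain ⟨K, hKE, ⟨hK1, hKinv⟩, hmin⟩ := (Set.toFinite {X : Subgroup H | X ≠ ⊥ ∧
    ∀ g, ∀ z ∈ X, c.φ g z ∈ X}).exists_le_minimal (a := E) ⟨hE1, hEinv⟩
  refine ⟨t, K, ht, hK1, ⟨⟨⟨fun a b => Subtype.ext ((hKE a.2).2.2 _ (hKE b.2).1).eq⟩⟩,
    fun a ha => (hKE ha).2.1⟩, hKinv, fun X hX hXinv => or_iff_not_imp_left.mpr fun hX1 =>
    le_antisymm hX (hmin (show X ∈ {X : Subgroup H | X ≠ ⊥ ∧ ∀ g, ∀ z ∈ X, c.φ g z ∈ X} from ⟨hX1, hXinv⟩) hX)⟩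

/-- The Frobenius structure, once the kernel and a complement are found. -/
theorem frobenius_final {K : Subgroup H} {v : H} {t u : ℕ} (ht : t.Prime) (hu : u.Prime) (hut : u ≠ t)
    (hv : orderOf v = u) (hKe : Cfsg.IsElementaryAbelian t K) (hK1 : K ≠ ⊥)
    (hKinv : ∀ g, ∀ z ∈ K, c.φ g z ∈ K) (hdisj : K ⊓ c.M v = ⊥) (hsup : K ⊔ c.M v = ⊤)
    (hMk : ∀ k ∈ K, k ≠ 1 → c.M k = K) :
    ∃ (Q K : Subgroup H) (p : ℕ), p.Prime ∧ Cfsg.IsFrobeniusComplement Q ∧ (Nat.card Q).Prime ∧
      K.Normal ∧ (K : Set H) = Cfsg.frobeniusKernel Q ∧ Cfsg.IsElementaryAbelian p K := by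
  haveI hKn := c.conj_inv hKinv
  haveI := Fact.mk hu
  obtain ⟨k, hk, hk1⟩ := (Subgroup.bot_or_exists_ne_one K).resolve_left hK1
  have hvK : v ∉ K := fun h => ne_one_of_prime hu hv (mem_bot.mp (hdisj ▸ ⟨h, c.self v⟩))
  have hdec : ∀ b : H, ∃ z ∈ K, ∃ w ∈ c.M v, b = z * w := fun b => by
    have hb : b ∈ K ⊔ c.M v := hsup ▸ mem_top b
    rw [← SetLike.mem_coe, Subgroup.normal_mul] at hb
    obtain ⟨z, hz, w, hw, h⟩ := Set.mem_mul.mp hb
    exact ⟨z, hz, w, hw, h.symm⟩
  have hvm : v ∈ modCenter u K := ⟨fun b => by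
    obtain ⟨z, hz, w, hw, rfl⟩ := hdec b
    have hvw := c.comm v w hw
    rw [show ⁅v, z * w⁆ = (v * z * v⁻¹) * (v * w * v⁻¹ * w⁻¹) * z⁻¹ by
      simp only [commutatorElement_def]; group, hvw.eq, mul_inv_cancel_right, mul_inv_cancel, mul_one]
    exact K.mul_mem (hKn.conj_mem z hz v) (K.inv_mem hz), by
    rw [← hv, pow_orderOf_eq_one]; exact one_mem _⟩
  have htop : modCenter u K = ⊤ := by
    refine (c.crit k hk1 _ ?_ (fun g _ z hz => c.modCenter_inv (hKinv g) hz)).resolve_left fun h => hvK ?_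
    · rw [hMk k hk hk1]
      intro a ha
      refine ⟨fun b => ?_, K.pow_mem ha u⟩
      rw [show ⁅a, b⁆ = a * (b * a⁻¹ * b⁻¹) by simp only [commutatorElement_def]; group]
      exact K.mul_mem ha (hKn.conj_mem _ (K.inv_mem ha) b)
    · rw [← hMk k hk hk1, ← h]
      exact hvm
  have hQ : ∀ a ∈ c.M v, a ^ u = 1 ∧ ∀ b ∈ c.M v, Commute a b := by
    intro a ha
    have hm : a ∈ modCenter u K := htop ▸ mem_top a
    refine ⟨mem_bot.mp (hdisj ▸ ⟨hm.2, Subgroup.pow_mem _ ha u⟩), fun b hb =>
      commutatorElement_eq_one_iff_commute.mp (mem_bot.mp (hdisj ▸ ⟨hm.1 b, ?_⟩))⟩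
    rw [commutatorElement_def]
    exact (c.M v).mul_mem ((c.M v).mul_mem ((c.M v).mul_mem ha hb) ((c.M v).inv_mem ha)) ((c.M v).inv_mem hb)
  have hord : ∀ a ∈ c.M v, a ≠ 1 → orderOf a = u := fun a ha ha1 => orderOf_eq_prime (hQ a ha).1 ha1
  have hfpf : ∀ a ∈ c.M v, a ≠ 1 → ∀ z ∈ K, a * z = z * a → z = 1 := by
    intro a ha ha1 z hz haz
    by_contra hz1
    have hzo : orderOf z = t := by
      haveI := Fact.mk ht
      exact orderOf_eq_prime (hKe.2 z hz) hz1
    have h1 := (c.cop z a t u ht hu hut.symm hzo (hord a ha ha1) (Commute.symm haz)).1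
    rw [hMk z hz hz1] at h1
    exact ha1 (mem_bot.mp (hdisj ▸ ⟨h1, ha⟩))
  have hcyc : ∀ a ∈ c.M v, a ∈ zpowers v := by
    by_contra hcon
    push Not at hcon
    obtain ⟨a, ha, hav⟩ := hcon
    have ha1 : a ≠ 1 := fun h => hav (h ▸ one_mem _)
    have hP : PrimeGraphFour.Pair u v a := ⟨hv, hord a ha ha1, c.comm v a ha, hav⟩
    obtain ⟨e, he, he1, z, hz, hz1, hez⟩ := hP.fix hu (K := K)
      (mem_normalizer_fintype fun z hz => hKn.conj_mem z hz v)
      (mem_normalizer_fintype fun z hz => hKn.conj_mem z hz a)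
      (PrimeGraphFour.elem_not_dvd ht hu hut hKe) hK1
    exact hz1 (hfpf e (PrimeGraphFour.pairGroup_le (c.self v) ha he) he1 z hz hez.eq)
  have hcard : Nat.card (c.M v) = u := by
    rw [show c.M v = zpowers v from le_antisymm hcyc (zpowers_le.mpr (c.self v)), Nat.card_zpowers, hv]
  have hQ1 : c.M v ≠ ⊥ := fun h => ne_one_of_prime hu hv (mem_bot.mp (h ▸ c.self v))
  refine ⟨c.M v, K, t, ht, Frobenius.isFrobeniusComplement_of_fixedPointFree hdisj hsup hK1 hQ1 hfpf,
    by rw [hcard]; exact hu, hKn, ?_, hKe⟩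
  exact (Frobenius.frobeniusKernel_eq_of_fixedPointFree hdisj hsup hfpf).symm

include c in
/-- The structure when the group is not a prime power group. -/
theorem frobenius_structure (hnp : ∀ p : ℕ, p.Prime → ¬ IsPGroup p H) [Nontrivial H] :
    ∃ (Q K : Subgroup H) (p : ℕ), p.Prime ∧ Cfsg.IsFrobeniusComplement Q ∧ (Nat.card Q).Prime ∧
      K.Normal ∧ (K : Set H) = Cfsg.frobeniusKernel Q ∧ Cfsg.IsElementaryAbelian p K := by
  classical
  obtain ⟨t, K, ht, hK1, hKe, hKinv, hKmin⟩ := c.exists_min_elem hnp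
  haveI := Fact.mk ht
  haveI hKn := c.conj_inv hKinv
  obtain ⟨u, v, hu, hut, hv⟩ := exists_prime_ne hnp ht
  have hv1 := ne_one_of_prime hu hv
  have hKo : ∀ a ∈ K, a ≠ 1 → orderOf a = t := fun a ha ha1 => orderOf_eq_prime (hKe.2 a ha) ha1
  have hKc : ∀ a ∈ K, ∀ b ∈ K, Commute a b := fun a ha b hb =>
    congrArg Subtype.val (hKe.1.1.comm ⟨a, ha⟩ ⟨b, hb⟩)
  -- complements of `K` by centralizers
  have hsupv : ∀ y : H, y ≠ 1 → ¬ K ≤ c.M y → K ⊔ c.M y = ⊤ := fun y hy hle =>
    (c.crit y hy _ le_sup_right fun g hg z hz => by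
      rw [← SetLike.mem_coe, Subgroup.normal_mul] at hz
      obtain ⟨a, ha, b, hb, rfl⟩ := Set.mem_mul.mp hz
      rw [map_mul]
      exact mul_mem (mem_sup_left (hKinv g a ha)) (mem_sup_right (c.fixed y g hg b hb))).resolve_left
      fun h => hle (le_sup_left.trans h.le)
  by_cases hD : K ⊓ c.M v = ⊥
  · have hnle : ¬ K ≤ c.M v := fun h => hK1 (by rw [← hD, inf_eq_left.mpr h])
    have hsup := hsupv v hv1 hnle
    refine c.frobenius_final ht hu hut hv hKe hK1 hKinv hD hsup fun k hk hk1 => ?_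
    have hKk : K ≤ c.M k := by
      by_contra hle
      obtain ⟨a, ha, hak⟩ := SetLike.not_le_iff_exists.mp hle
      have hinv := c.grow k hk1 (K ⊓ c.M k) a
        (fun g hg z hz => ⟨hKinv g z hz.1, c.fixed k g hg z hz.2⟩) hak
        (fun z hz => by rw [(hKc a ha z hz.1).eq, mul_inv_cancel_right]; exact hz)
      rcases hKmin _ inf_le_left hinv with h | h
      · exact hk1 (mem_bot.mp (h ▸ ⟨hk, c.self k⟩))
      · exact hle (inf_eq_left.mp h)
    refine le_antisymm (fun a ha => ?_) hKk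
    have ha' : a ∈ K ⊔ c.M v := hsup ▸ mem_top a
    rw [← SetLike.mem_coe, Subgroup.normal_mul] at ha'
    obtain ⟨z, hz, w, hw, rfl⟩ := Set.mem_mul.mp ha'
    suffices hw1 : w = 1 by rw [hw1, mul_one]; exact hz
    by_contra hw1
    have hwk : w ∈ c.M k := by
      have := (c.M k).mul_mem ((c.M k).inv_mem (hKk hz)) ha
      rwa [inv_mul_cancel_left] at this
    have hkv : k ∉ c.M v := fun h => hk1 (mem_bot.mp (hD ▸ ⟨hk, h⟩))
    rcases c.ab_or_prime hu hv with hAb | hP
    · exact hkv (hAb w hw hw1 ▸ c.symm _ _ hwk)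
    · haveI := Fact.mk hu
      obtain ⟨s, n, hs, hn⟩ := exists_prime_pow hw1
      obtain ⟨m, hm⟩ := IsPGroup.iff_card.mp hP
      have hw' : w ^ n ∈ c.M v := Subgroup.pow_mem _ hw n
      obtain rfl : s = u := (Nat.prime_dvd_prime_iff_eq hs hu).mp
        (hs.dvd_of_dvd_pow (hn ▸ hm ▸ _root_.Subgroup.orderOf_dvd_natCard _ hw'))
      have hco := (c.cop k (w ^ n) t s ht hs hut.symm (hKo k hk hk1) hn
        ((c.comm k w hwk).pow_right n)).2
      exact hkv (c.symm _ _ (hco ▸ c.symm _ _ hw'))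
  -- otherwise the centralizer of `v` is invariant of abelian type
  obtain ⟨d, hd, hd1⟩ := (Subgroup.bot_or_exists_ne_one _).resolve_left hD
  set A := c.M v with hA
  have hAd : ∀ e ∈ K ⊓ A, e ≠ 1 → c.M e = A := fun e he he1 =>
    (c.cop v e u t hu ht hut hv (hKo e he.1 he1) (c.comm v e he.2)).2.symm
  have hAb : c.IsAb A := (c.ab_or_prime hu hv).resolve_right fun hP => by
    haveI := Fact.mk hu
    obtain ⟨m, hm⟩ := IsPGroup.iff_card.mp hP
    exact hut ((Nat.prime_dvd_prime_iff_eq ht hu).mp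
      (ht.dvd_of_dvd_pow (hKo d hd.1 hd1 ▸ hm ▸ _root_.Subgroup.orderOf_dvd_natCard _ hd.2))).symm
  have hDinv : ∀ g, ∀ z ∈ K ⊓ A, c.φ g z ∈ K ⊓ A := by
    by_cases hle : K ≤ A
    · rw [inf_eq_left.mpr hle]; exact hKinv
    obtain ⟨a, ha, hav⟩ := SetLike.not_le_iff_exists.mp hle
    exact c.grow v hv1 _ a (fun g hg z hz => ⟨hKinv g z hz.1, c.fixed v g hg z hz.2⟩) hav
      fun z hz => by rw [(hKc a ha z hz.1).eq, mul_inv_cancel_right]; exact hz
  have hAinv : ∀ g, ∀ z ∈ A, c.φ g z ∈ A := by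
    intro g z hz
    have h1 := c.equiv g d z (by rw [hAd d hd hd1]; exact hz)
    rwa [hAd _ (hDinv g d hd) (fun h => hd1 ((c.φ g).injective (by rw [h, map_one])))] at h1
  have hKA : K ≤ A := by
    rcases hKmin _ inf_le_left hDinv with h | h
    · exact absurd h hD
    · exact inf_eq_left.mp h
  have hout : ∀ y, y ∉ A → A ⊓ c.M y = ⊥ := fun y hy => eq_bot_iff.mpr fun a ha => by
    rw [mem_bot]
    by_contra ha1
    exact hy (hAb a ha.1 ha1 ▸ c.symm _ _ ha.2)
  have hAK : A = K := by
    obtain ⟨y, hy⟩ : ∃ y, y ∉ A := by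
      by_contra h
      push Not at h
      exact c.proper v hv1 (eq_top_iff.mpr fun a _ => h a)
    have hy1 : y ≠ 1 := fun h => hy (h ▸ one_mem _)
    have hsup := hsupv y hy1 fun h => hK1 (le_bot_iff.mp ((le_inf hKA h).trans (hout y hy).le))
    refine le_antisymm (fun a ha => ?_) hKA
    have ha' : a ∈ K ⊔ c.M y := hsup ▸ mem_top a
    rw [← SetLike.mem_coe, Subgroup.normal_mul] at ha'
    obtain ⟨z, hz, w, hw, rfl⟩ := Set.mem_mul.mp ha'
    have hwA : w ∈ A := by
      have := A.mul_mem (A.inv_mem (hKA hz)) ha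
      rwa [inv_mul_cancel_left] at this
    rw [show w = 1 from mem_bot.mp (hout y hy ▸ ⟨hwA, hw⟩), mul_one]
    exact hz
  exact absurd (hKo v (hAK ▸ c.self v) hv1) (hv ▸ hut)

end GMap

/-- A lift of prime power order. -/
theorem exists_primary_lift {A B : Type u} [Group A] [Finite A] [Group B] {f : A →* B}
    (hf : Function.Surjective f) {x : B} {t : ℕ} (ht : t.Prime) (hx : orderOf x = t) :
    ∃ a : A, f a = x ∧ ∃ i, orderOf a ∣ t ^ i := by
  obtain ⟨a, rfl⟩ := hf x
  set i := (orderOf a).factorization t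
  set j := orderOf a / t ^ i
  have hj : ¬ t ∣ j := Nat.not_dvd_ordCompl ht (orderOf_pos a).ne'
  have hij : t ^ i * j = orderOf a := Nat.ordProj_mul_ordCompl_eq_self _ t
  obtain ⟨e, he⟩ := exists_pow_eq_self_of_coprime (x := f a) (n := j)
    (hx ▸ ((ht.coprime_iff_not_dvd.mpr hj).symm))
  refine ⟨(a ^ j) ^ e, by rw [map_pow, map_pow, he], i, orderOf_dvd_of_pow_eq_one ?_⟩
  rw [← pow_mul, ← pow_mul, show j * (e * t ^ i) = orderOf a * e by rw [← hij]; ring, pow_mul,
    pow_orderOf_eq_one, one_pow]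

theorem main_relative [Finite G] (N : Subgroup G) [hNn : N.Normal]
    (h : ∀ x : G, x ∈ N → x ∉ centralizer (N : Set G) → IsCoatom (centralizer ({x} : Set G))) :
    (∃ p : ℕ, p.Prime ∧ Cfsg.IsElementaryAbelian p (⊤ : Subgroup (N ⧸ center N))) ∨
    (∃ (Q K : Subgroup (N ⧸ center N)) (p : ℕ), p.Prime ∧ Cfsg.IsFrobeniusComplement Q ∧
      (Nat.card Q).Prime ∧ K.Normal ∧ (K : Set (N ⧸ center N)) = Cfsg.frobeniusKernel Q ∧
      Cfsg.IsElementaryAbelian p K) := by
  classical
  set π := QuotientGroup.mk' (center N) with hπ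
  have hsurj : Function.Surjective π := QuotientGroup.mk'_surjective _
  obtain ⟨s, hs⟩ := hsurj.hasRightInverse
  have hone : ∀ a, π a = 1 ↔ a ∈ center N := fun a => QuotientGroup.eq_one_iff a
  have hco : ∀ a : N, π a ≠ 1 → IsCoatom (centralizer ({(a : G)} : Set G)) := fun a ha =>
    h a a.2 fun hc => ha ((hone a).mpr (mem_center_iff.mpr fun b =>
      Subtype.ext (mem_centralizer_iff.mp hc b b.2)))
  let M : N ⧸ center N → Subgroup (N ⧸ center N) := fun x => (centralizer ({s x} : Set N)).map π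
  have hlift : ∀ {a a' : N}, π a = π a' → ∃ z ∈ center N, a' = a * z := fun {a a'} hh =>
    ⟨a⁻¹ * a', QuotientGroup.eq.mp hh, by simp⟩
  have hmem : ∀ a b : N, π b ∈ M (π a) ↔ Commute a b := by
    intro a b
    obtain ⟨z, hz, hz'⟩ := hlift (hs (π a)).symm
    rw [mem_center_iff] at hz
    have hzc : ∀ g, Commute g z := hz
    constructor
    · rintro ⟨b', hb', hbb⟩
      obtain ⟨w, hw, rfl⟩ := hlift hbb
      rw [mem_center_iff] at hw
      have hwc : ∀ g, Commute g w := hw
      have h1 : Commute (s (π a)) b' := (mem_centralizer_singleton_iff.mp hb').symm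
      rw [hz'] at h1
      have h2 : Commute a b' := by
        have := h1.mul_left ((hzc b').symm.inv_left)
        rwa [mul_inv_cancel_right] at this
      exact h2.mul_right (hwc a)
    · intro hab
      refine ⟨b, mem_centralizer_singleton_iff.mpr ?_, rfl⟩
      rw [hz']
      exact ((hab.mul_left (hzc b).symm).eq).symm
  have hcoe : ∀ a b : N, (b : G) ∈ centralizer ({(a : G)} : Set G) ↔ Commute a b := fun a b => by
    rw [mem_centralizer_singleton_iff]
    exact ⟨fun hh => Subtype.ext hh.symm, fun hh => (congrArg Subtype.val hh.eq).symm⟩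
  have hle : ∀ a a' : N, π a ≠ 1 → π a' ≠ 1 →
      centralizer ({(a : G)} : Set G) ≤ centralizer ({(a' : G)} : Set G) → M (π a) = M (π a') := by
    intro a a' ha ha' hle
    have heq : centralizer ({(a : G)} : Set G) = centralizer ({(a' : G)} : Set G) :=
      (((hco a ha).le_iff.mp hle).resolve_left (hco a' ha').1).symm
    ext y
    obtain ⟨b, rfl⟩ := hsurj y
    rw [hmem, hmem, ← hcoe, ← hcoe, heq]
  have hcomap : (center N).Characteristic := inferInstance
  let φ : G →* MulAut (N ⧸ center N) :=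
    { toFun := fun g => QuotientGroup.congr (center N) (center N) (MulAut.conjNormal g)
        (characteristic_iff_map_eq.mp hcomap _)
      map_one' := MulEquiv.ext fun x => by
        obtain ⟨b, rfl⟩ := hsurj x
        show QuotientGroup.mk' (center N) (MulAut.conjNormal (1 : G) b) = _
        rw [map_one]
        rfl
      map_mul' := fun g g' => MulEquiv.ext fun x => by
        obtain ⟨b, rfl⟩ := hsurj x
        show QuotientGroup.mk' (center N) (MulAut.conjNormal (g * g') b) = _
        rw [map_mul]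
        rfl }
  have hφ : ∀ g (b : N), φ g (π b) = π (MulAut.conjNormal g b) := fun g b => rfl
  let T : N ⧸ center N → Subgroup G := fun x => centralizer ({((s x : N) : G)} : Set G)
  have hsx : ∀ x, x ≠ 1 → π (s x) ≠ 1 := fun x hx => by rw [hs x]; exact hx
  have hTN : ∀ x (b : N), (b : G) ∈ T x ↔ π b ∈ M x := fun x b => by
    rw [hcoe, ← hmem, hs x]
  have hsupN : ∀ x, x ≠ 1 → ∀ g : G, ∃ b : N, ∃ m ∈ T x, g = b * m := fun x hx g => by
    have htop : N ⊔ T x = ⊤ := (hco _ (hsx x hx)).2 _ (lt_of_le_of_ne le_sup_right fun he => by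
      refine hsx x hx ((hone _).mpr (mem_center_iff.mpr fun b => ?_))
      exact ((hcoe _ _).mp (he.ge (mem_sup_left b.2))).eq.symm)
    have hg : g ∈ N ⊔ T x := htop ▸ mem_top g
    rw [← SetLike.mem_coe, Subgroup.normal_mul] at hg
    obtain ⟨b, hb, m, hm, rfl⟩ := Set.mem_mul.mp hg
    exact ⟨⟨b, hb⟩, m, hm, rfl⟩
  let c : GMap G (N ⧸ center N) :=
    { φ := φ
      M := M
      T := T
      inner := fun x => by
        obtain ⟨a, rfl⟩ := hsurj x
        refine ⟨a, MulEquiv.ext fun y => ?_⟩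
        obtain ⟨b, rfl⟩ := hsurj y
        rw [hφ, MulAut.conj_apply, ← map_inv, ← map_mul, ← map_mul]
        congr 1
      proper := fun x hx htop => by
        refine hsx x hx ((hone _).mpr (mem_center_iff.mpr fun b => ?_))
        exact ((hmem (s x) b).mp (by rw [hs x, htop]; exact mem_top _)).eq.symm
      self := fun x => by
        obtain ⟨a, rfl⟩ := hsurj x
        exact (hmem a a).mpr rfl
      symm := fun x y hy => by
        obtain ⟨a, rfl⟩ := hsurj x
        obtain ⟨b, rfl⟩ := hsurj y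
        exact (hmem b a).mpr ((hmem a b).mp hy).symm
      comm := fun x y hy => by
        obtain ⟨a, rfl⟩ := hsurj x
        obtain ⟨b, rfl⟩ := hsurj y
        exact ((hmem a b).mp hy).map π
      equiv := fun g x y hy => by
        obtain ⟨a, rfl⟩ := hsurj x
        obtain ⟨b, rfl⟩ := hsurj y
        rw [hφ, hφ, hmem]
        exact ((hmem a b).mp hy).map (MulAut.conjNormal g)
      fixed := fun x g hg y hy => by
        obtain ⟨b, rfl⟩ := hsurj y
        rw [hφ]
        have hga : MulAut.conjNormal g (s x) = s x := Subtype.ext (by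
          rw [MulAut.conjNormal_apply, mem_centralizer_singleton_iff.mp hg, mul_inv_cancel_right])
        have h1 := (hmem (s x) b).mp (by rw [hs x]; exact hy)
        have h2 := h1.map (MulAut.conjNormal g)
        rw [hga] at h2
        have h3 := (hmem _ _).mpr h2
        rwa [hs x] at h3
      pow := fun x n hn => by
        obtain ⟨a, rfl⟩ := hsurj x
        rw [← map_pow] at hn ⊢
        refine hle a (a ^ n) (fun h0 => hn (by rw [map_pow, h0, one_pow])) hn fun g hg => ?_
        rw [mem_centralizer_singleton_iff] at hg ⊢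
        rw [SubmonoidClass.coe_pow]
        exact (Commute.pow_right (show Commute g (a : G) from hg) n).eq
      cop := fun x y t u ht hu htu hx hy hxy => by
        obtain ⟨a, rfl, i, hai⟩ := exists_primary_lift hsurj ht hx
        obtain ⟨b, rfl, j, hbj⟩ := exists_primary_lift hsurj hu hy
        have hcop : (orderOf a).Coprime (orderOf b) :=
          ((((Nat.coprime_primes ht hu).mpr htu).pow i j).coprime_dvd_left hai).coprime_dvd_right hbj
        -- a central commutator killed by both orders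
        have hab : Commute a b := by
          set z := a * b * a⁻¹ * b⁻¹ with hzdef
          have hz : z ∈ center N := by
            refine (hone _).mp ?_
            rw [hzdef, map_mul, map_mul, map_mul, map_inv, map_inv, hxy.eq, mul_inv_cancel_right,
              mul_inv_cancel]
          rw [mem_center_iff] at hz
          have hzc : ∀ g, Commute g z := hz
          have hconj : a * b * a⁻¹ = z * b := by rw [hzdef, inv_mul_cancel_right]
          have hpow : ∀ k : ℕ, a ^ k * b * (a ^ k)⁻¹ = z ^ k * b := by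
            intro k
            induction k with
            | zero => simp
            | succ k ih =>
              calc a ^ (k + 1) * b * (a ^ (k + 1))⁻¹ = a * (a ^ k * b * (a ^ k)⁻¹) * a⁻¹ := by
                    rw [pow_succ']; group
                _ = (a * z ^ k) * b * a⁻¹ := by rw [ih]; group
                _ = z ^ k * (a * b * a⁻¹) := by rw [((hzc a).pow_right k).eq]; group
                _ = z ^ (k + 1) * b := by rw [hconj, ← mul_assoc, ← pow_succ]
          have h1 : z ^ orderOf a = 1 := by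
            have := hpow (orderOf a)
            rw [pow_orderOf_eq_one, one_mul, inv_one, mul_one] at this
            exact mul_eq_right.mp this.symm
          have h2 : z ^ orderOf b = 1 := by
            have e : (a * b * a⁻¹) ^ orderOf b = (z * b) ^ orderOf b := by rw [hconj]
            rw [conj_pow, pow_orderOf_eq_one, mul_one, mul_inv_cancel, (hzc b).symm.mul_pow,
              pow_orderOf_eq_one, mul_one] at e
            exact e.symm
          have hz1 : z = 1 := orderOf_eq_one_iff.mp (Nat.eq_one_of_dvd_coprimes hcop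
            (orderOf_dvd_of_pow_eq_one h1) (orderOf_dvd_of_pow_eq_one h2))
          rw [hz1, one_mul] at hconj
          exact mul_inv_eq_iff_eq_mul.mp hconj
        refine ⟨(hmem a b).mpr hab, ?_⟩
        have key : ∀ a b : N, π a ≠ 1 → Commute a b → (orderOf a).Coprime (orderOf b) →
            π (a * b) ≠ 1 ∧ M (π (a * b)) = M (π a) := by
          intro a b ha hab' hcop'
          obtain ⟨n, hn⟩ := exists_pow_eq_self_of_coprime (x := a) hcop'.symm
          have e : (a * b) ^ (orderOf b * n) = a := by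
            rw [pow_mul, hab'.mul_pow, pow_orderOf_eq_one, mul_one, hn]
          have hne : π (a * b) ≠ 1 := fun h0 => ha (by rw [← e, map_pow, h0, one_pow])
          refine ⟨hne, hle _ _ hne ha fun g hg => ?_⟩
          rw [mem_centralizer_singleton_iff] at hg ⊢
          have h1 := Commute.pow_right (show Commute g ((a * b : N) : G) from hg) (orderOf b * n)
          rw [← SubmonoidClass.coe_pow, e] at h1
          exact h1.eq
        rw [← (key a b (fun h0 => ne_one_of_prime ht hx h0) hab hcop).2, hab.eq,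
          (key b a (fun h0 => ne_one_of_prime hu hy h0) hab.symm hcop.symm).2]
      crit := fun x hx X hMX hinv => by
        by_cases hXM : X ≤ M x
        · exact Or.inl (le_antisymm hXM hMX)
        right
        obtain ⟨y, hyX, hyM⟩ := SetLike.not_le_iff_exists.mp hXM
        obtain ⟨e, rfl⟩ := hsurj y
        set X' := (X.comap π).map N.subtype with hX'
        have hTn : T x ≤ normalizer (X' : Set G) := fun g hg => mem_normalizer_fintype fun w hw => by
          obtain ⟨w, hw, rfl⟩ := hw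
          refine ⟨MulAut.conjNormal g w, ?_, by simp⟩
          show π (MulAut.conjNormal g w) ∈ X
          rw [← hφ]
          exact hinv g hg _ hw
        have htop : X' ⊔ T x = ⊤ := (hco _ (hsx x hx)).2 _ (lt_of_le_of_ne le_sup_right fun he =>
          hyM ((hTN x e).mp (he.ge (mem_sup_left ⟨e, hyX, rfl⟩))))
        refine eq_top_iff.mpr fun z _ => ?_
        obtain ⟨b, rfl⟩ := hsurj z
        obtain ⟨_, ⟨w, hw, rfl⟩, m, hm, hbm⟩ :=
          Coprime.exists_mul_of_mem_sup hTn (htop ▸ mem_top (b : G))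
        have hm' : m ∈ N := by
          have := N.mul_mem (N.inv_mem w.2) b.2
          rwa [hbm, show N.subtype w = (w : G) from rfl, inv_mul_cancel_left] at this
        have hb : b = w * ⟨m, hm'⟩ := Subtype.ext hbm
        rw [hb, map_mul]
        exact X.mul_mem hw (hMX ((hTN x ⟨m, hm'⟩).mp hm))
      grow := fun x hx X y hinv hy hyX g z hz => by
        obtain ⟨e, rfl⟩ := hsurj y
        let S : Subgroup G :=
          { carrier := {g | ∀ z, z ∈ X ↔ φ g z ∈ X}
            one_mem' := fun z => by simp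
            mul_mem' := fun {g g'} h1 h2 z => by
              rw [map_mul, MulAut.mul_apply]; exact (h2 z).trans (h1 _)
            inv_mem' := fun {g} h1 z => by
              rw [h1 (φ g⁻¹ z), map_inv, MulAut.apply_inv_self] }
        have hS : ∀ g : G, (∀ z ∈ X, φ g z ∈ X) → g ∈ S := fun g hg z => by
          refine ⟨hg z, fun hz => ?_⟩
          obtain ⟨⟨w, hw⟩, hwz⟩ := Finite.surjective_of_injective
            (f := fun w : X => (⟨φ g w, hg w w.2⟩ : X)) (fun a b hab => Subtype.ext ((φ g).injective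
              (congrArg Subtype.val hab))) ⟨φ g z, hz⟩
          rwa [← (φ g).injective (congrArg Subtype.val hwz)]
        have hTS : T x ≤ S := fun g hg => hS g (hinv g hg)
        have heS : (e : G) ∈ S := hS _ fun z hz => by
          obtain ⟨b, rfl⟩ := hsurj z
          rw [hφ]
          have h1 := hyX _ hz
          rw [← map_inv, ← map_mul, ← map_mul] at h1
          convert h1 using 2
          exact Subtype.ext (by simp)
        have htop : S = ⊤ := ((hco _ (hsx x hx)).le_iff.mp hTS).resolve_right fun he =>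
          hy ((hTN x e).mp (he.le heS))
        exact ((htop.ge (mem_top g)) z).mp hz }
  rcases subsingleton_or_nontrivial (N ⧸ center N) with hsub | hnt
  · exact Or.inl ⟨2, Nat.prime_two, ⟨⟨fun a b => Subtype.ext (Subsingleton.elim _ _)⟩⟩,
      fun a _ => Subsingleton.elim _ _⟩
  by_cases hp : ∃ p : ℕ, p.Prime ∧ IsPGroup p (N ⧸ center N)
  · obtain ⟨p, hp, hP⟩ := hp
    exact Or.inl ⟨p, hp, c.elementary_of_isPGroup hp hP⟩
  push Not at hp
  exact Or.inr (c.frobenius_structure hp)

end Cfsg.Agent.Lib.MaximalCentralizers
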